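import Cfsg.Agent.Lib.SpecSp8.Roots
import Cfsg.Agent.Lib.PSpGraph.Basic

/-!
Element orders in `Sp₈(q)`, `q` even: the characteristic polynomial divides `X ^ N - 1` for a target `N`, and with
a fixed space of dimension other than one the element also kills the corresponding geometric sum.
-/

set_option autoImplicit false
set_option linter.unusedSectionVars false
set_option linter.style.haveILetI false

namespace CfsgLib.SpecSp8

open Polynomial Module

section Endo

variable {K V : Type*} [Field K] [AddCommGroup V] [Module K V] [FiniteDimensional K V]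

theorem nilpotent_index (g : Module.End K V) (hn : IsNilpotent g) (h2 : 2 ≤ finrank K (LinearMap.ker g)) :
    g ^ (finrank K V - 1) = 0 := by
  have hstep : ∀ i, g ^ i ≠ 0 →
      finrank K (LinearMap.range (g ^ (i + 1))) < finrank K (LinearMap.range (g ^ i)) := by
    intro i hi
    have hle : LinearMap.range (g ^ (i + 1)) ≤ LinearMap.range (g ^ i) := by
      rw [pow_succ, Module.End.mul_eq_comp]; exact LinearMap.range_comp_le_range _ _
    refine Submodule.finrank_lt_finrank_of_lt (lt_of_le_of_ne hle fun he => hi ?_)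
    obtain ⟨N, hN⟩ := hn
    have hstab : ∀ j, LinearMap.range (g ^ (i + j)) = LinearMap.range (g ^ i) := by
      intro j
      induction j with
      | zero => rw [add_zero]
      | succ j ih =>
        rw [← add_assoc, pow_succ', Module.End.mul_eq_comp, LinearMap.range_comp, ih, ← LinearMap.range_comp,
          ← Module.End.mul_eq_comp, ← pow_succ', he]
    have := hstab N
    rw [pow_add, hN, mul_zero, LinearMap.range_zero] at this
    exact LinearMap.range_eq_bot.mp this.symm
  have hb : ∀ i, g ^ (i + 1) ≠ 0 → finrank K (LinearMap.range (g ^ (i + 1))) + 2 + i ≤ finrank K V := by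
    intro i
    induction i with
    | zero =>
      intro _
      rw [pow_one]
      have := LinearMap.finrank_range_add_finrank_ker g
      omega
    | succ i ih =>
      intro hi
      have hi' : g ^ (i + 1) ≠ 0 := fun h => hi (by rw [pow_succ, h, zero_mul])
      have := hstep _ hi'
      have := ih hi'
      omega
  by_contra hne
  have hd : 2 ≤ finrank K V := h2.trans (Submodule.finrank_le _)
  have h := hb (finrank K V - 2) (by rwa [show finrank K V - 2 + 1 = finrank K V - 1 by omega])
  rw [show finrank K V - 2 + 1 = finrank K V - 1 by omega] at h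
  have hpos : 0 < finrank K (LinearMap.range (g ^ (finrank K V - 1))) :=
    Nat.pos_of_ne_zero fun h0 => hne (LinearMap.range_eq_bot.mp (Submodule.finrank_eq_zero.mp h0))
  omega

theorem aeval_pred (f : Module.End K V) (h2 : 2 ≤ finrank K (LinearMap.ker (f - 1))) {Q : K[X]}
    (hQ : f.charpoly = (X - C 1) * Q) : aeval f Q = 0 := by
  classical
  set N : Module.End K V := f - 1
  obtain ⟨m, hm⟩ : ∃ m, m = f.charpoly.rootMultiplicity 1 := ⟨_, rfl⟩
  have hm1 : 1 ≤ m := hm ▸ (rootMultiplicity_pos f.charpoly_monic.ne_zero).mpr (by rw [hQ]; simp [IsRoot])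
  obtain ⟨P', hP'⟩ := pow_rootMultiplicity_dvd f.charpoly 1
  rw [← hm] at hP'
  have hQ' : Q = (X - C 1) ^ (m - 1) * P' :=
    mul_left_cancel₀ (X_sub_C_ne_zero 1) (by
      rw [← hQ, hP', ← mul_assoc, ← pow_succ', show m - 1 + 1 = m by omega])
  set W : Submodule K V := LinearMap.ker (N ^ m)
  have hN : aeval f (X - C (1 : K)) = N := by simp [N]
  have hW : finrank K W ≤ m := by
    rw [hm, ← LinearMap.finrank_maxGenEigenspace_eq]
    refine Submodule.finrank_mono fun x hx => ?_
    rw [Module.End.mem_maxGenEigenspace]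
    exact ⟨m, by rw [one_smul]; exact hx⟩
  have hinv : ∀ x ∈ W, N x ∈ W := fun x hx => by
    show (N ^ m) (N x) = 0
    rw [← Module.End.mul_apply, ← pow_succ, pow_succ', Module.End.mul_apply, hx, map_zero]
  obtain ⟨g, hg⟩ : ∃ g : Module.End K W, g = N.restrict hinv := ⟨_, rfl⟩
  have hgpow : ∀ (i : ℕ) (x : W), ((g ^ i) x : V) = (N ^ i) (x : V) := by
    intro i
    induction i with
    | zero => intro x; rfl
    | succ i ih => intro x; rw [pow_succ, pow_succ, Module.End.mul_apply, Module.End.mul_apply, ih, hg]; rfl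
  have hnil : IsNilpotent g := ⟨m, LinearMap.ext fun x => Subtype.ext ((hgpow m x).trans x.2)⟩
  have hle : LinearMap.ker N ≤ W := fun x hx => by
    show (N ^ m) x = 0
    rw [show m = m - 1 + 1 by omega, pow_succ, Module.End.mul_apply, hx, map_zero]
  have hk : 2 ≤ finrank K (LinearMap.ker g) := by
    rw [hg, LinearMap.ker_restrict hinv,
      (Submodule.comapSubtypeEquivOfLe hle).finrank_eq]
    exact h2
  have hg0 : g ^ (m - 1) = 0 := by
    have := nilpotent_index g hnil hk
    rw [show m - 1 = (finrank K W - 1) + (m - finrank K W) by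
      have := h2.trans ((Submodule.finrank_mono hle)); omega, pow_add, this, zero_mul]
  refine LinearMap.ext fun v => ?_
  have hv : (aeval f P') v ∈ W := by
    show (N ^ m) (aeval f P' v) = 0
    rw [← hN, ← map_pow, ← Module.End.mul_apply, ← map_mul, ← hP', LinearMap.aeval_self_charpoly]
    rfl
  rw [hQ', map_mul, Module.End.mul_apply, map_pow, hN, ← hgpow _ ⟨_, hv⟩, hg0]
  rfl

theorem geom_zero (f : Module.End K V) {n : ℕ} (h : f.charpoly ∣ X ^ n - 1)
    (hfix : finrank K (LinearMap.ker (f - 1)) ≠ 1) : f ^ n = 1 ∧ ∑ i ∈ Finset.range n, f ^ i = 0 := by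
  have hG : (X - C 1) * ∑ i ∈ Finset.range n, (X : K[X]) ^ i = X ^ n - 1 := by
    rw [C_1, mul_comm, geom_sum_mul]
  refine ⟨?_, ?_⟩
  · obtain ⟨R, hR⟩ := h
    have := congrArg (aeval f) hR
    rwa [map_mul, LinearMap.aeval_self_charpoly, zero_mul, map_sub, map_pow, aeval_X, map_one, sub_eq_zero] at this
  suffices key : ∃ Q : K[X], aeval f Q = 0 ∧ Q ∣ ∑ i ∈ Finset.range n, (X : K[X]) ^ i by
    obtain ⟨Q, hQ, R, hR⟩ := key
    have := congrArg (aeval f) hR
    rw [map_mul, hQ, zero_mul, map_sum] at this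
    simpa using this
  by_cases h1 : f.charpoly.IsRoot 1
  · obtain ⟨Q, hQ⟩ := dvd_iff_isRoot.mpr h1
    refine ⟨Q, aeval_pred f ?_ hQ, ?_⟩
    · have hev : Module.End.HasEigenvalue f 1 := by
        rw [Module.End.hasEigenvalue_iff_isRoot_charpoly]; exact h1
      obtain ⟨x, hx⟩ := hev.exists_hasEigenvector
      have hne : LinearMap.ker (f - 1) ≠ ⊥ := fun hb => hx.2 ((Submodule.mem_bot K).mp (hb ▸ by
        simp [hx.apply_eq_smul]))
      have : finrank K (LinearMap.ker (f - 1)) ≠ 0 := fun h0 => hne (Submodule.finrank_eq_zero.mp h0)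
      omega
    · rw [← mul_dvd_mul_iff_left (X_sub_C_ne_zero (1 : K)), hG, ← hQ]
      exact h
  · refine ⟨f.charpoly, LinearMap.aeval_self_charpoly f, ?_⟩
    refine (((irreducible_X_sub_C (1 : K)).coprime_iff_not_dvd.mpr
      fun hd => h1 (dvd_iff_isRoot.mp hd)).symm).dvd_of_dvd_mul_left ?_
    rw [hG]; exact h

end Endo

section Symp

variable {F : Type*} [Field F] [Fintype F] [CharP F 2]

theorem roots_inv {n : ℕ} (A : Matrix.symplecticGroup (Fin n) F) {Ω : Type*} [Field Ω] [IsAlgClosed Ω]
    (ι : F →+* Ω) (hne0 : (0 : Ω) ∉ (A.1.map ι).charpoly.roots) :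
    (A.1.map ι).charpoly.roots.map (·⁻¹) = (A.1.map ι).charpoly.roots := by
  set Ab := A.1.map ι with hAb
  set R := Ab.charpoly.roots with hR
  rw [← CfsgLib.SpectrumPowers.roots_reverse_prod R hne0, hR,
    ← (IsAlgClosed.splits Ab.charpoly).eq_prod_roots_of_monic (Matrix.charpoly_monic _)]
  congr 1
  ext k
  rw [coeff_reverse, Matrix.charpoly_natDegree_eq_dim, Fintype.card_sum, Fintype.card_fin]
  rcases le_or_gt k (n + n) with hk | hk
  · rw [revAt_le hk, hAb, Matrix.charpoly_map, coeff_map, coeff_map,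
      ← CfsgLib.SemisimpleCount.charpoly_sym A hk]
  · rw [show revAt (n + n) k = k by
      show (if k ≤ n + n then n + n - k else k) = k
      rw [if_neg (by omega)]]

/-- The orders of `Sp₈(q)`, with the two-power and odd part multiplied. -/
theorem charpoly_dvd_target {n : ℕ} (hn : n = 4) (A : Matrix.symplecticGroup (Fin n) F) :
    ∃ vM ∈ targets (Fintype.card F), A.1.charpoly ∣ X ^ (2 ^ vM.1 * vM.2) - 1 := by
  classical
  haveI : Fact (Nat.Prime 2) := ⟨Nat.prime_two⟩
  haveI : Nonempty (Fin n ⊕ Fin n) := ⟨Sum.inl ⟨0, by omega⟩⟩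
  obtain ⟨a, ha, hF⟩ := CfsgLib.PSpGraph.card_eq_pow F 2
  let Ω := AlgebraicClosure F
  set ι := algebraMap F Ω with hι
  haveI : CharP Ω 2 := charP_of_injective_algebraMap ι.injective 2
  set q := Fintype.card F with hq
  set fr : Ω →+* Ω := iterateFrobenius Ω 2 a with hfr
  have hfrx : ∀ x : Ω, fr x = x ^ q := fun x => by rw [hfr, iterateFrobenius_def, hF]
  have hfrι : ∀ x : F, fr (ι x) = ι x := fun x => by rw [hfrx, ← map_pow, hq, FiniteField.pow_card]
  set Ab := A.1.map ι with hAb
  set R := Ab.charpoly.roots with hR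
  have hcard : Multiset.card R = 8 := by
    rw [hR, IsAlgClosed.card_roots_eq_natDegree, Matrix.charpoly_natDegree_eq_dim, Fintype.card_sum, Fintype.card_fin, hn]
  have hrotq : R.map fr = R := by
    have h := (IsAlgClosed.splits Ab.charpoly).roots_map fr
    rw [← Matrix.charpoly_map, show Ab.map fr = Ab by ext x y; exact hfrι _] at h
    exact h.symm
  have hAo : Ab ^ orderOf A = 1 := by
    rw [hAb, ← Matrix.map_pow, ← SubmonoidClass.coe_pow, pow_orderOf_eq_one]
    exact Matrix.map_one ι (map_zero ι) (map_one ι)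
  have hne0 : (0 : Ω) ∉ R := fun h0 => by
    rw [hR, mem_roots (Matrix.charpoly_monic _).ne_zero, ← Matrix.mem_spectrum_iff_isRoot_charpoly] at h0
    have h := spectrum.subset_polynomial_aeval Ab (X ^ orderOf A) ⟨0, h0, rfl⟩
    rw [map_pow, aeval_X, hAo, spectrum.one_eq, Set.mem_singleton_iff] at h
    simp [zero_pow (orderOf_pos A).ne'] at h
  have hroti : R.map (·⁻¹) = R := roots_inv A ι hne0
  have hinj : Function.Injective fun t : Ω => t ^ q := fun x y hxy => fr.injective (by rw [hfrx, hfrx]; exact hxy)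
  have hcfr : ∀ t, R.count (t ^ q) = R.count t := fun t => by
    nth_rewrite 1 [← hrotq]
    rw [← hfrx, Multiset.count_map_eq_count' _ R fr.injective]
  have hcinv : ∀ t : Ω, R.count t⁻¹ = R.count t := fun t => by
    nth_rewrite 1 [← hroti]
    rw [Multiset.count_map_eq_count' _ R inv_injective]
  obtain ⟨vM, hvM, h⟩ := target_of_roots R hcard hne0 hcfr hcinv hinj Fintype.card_pos
  refine ⟨vM, hvM, (Polynomial.map_dvd_map ι ι.injective (Matrix.charpoly_monic _)).mp ?_⟩
  rw [← Matrix.charpoly_map, Polynomial.map_sub, Polynomial.map_pow, map_X, Polynomial.map_one, ← hAb]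
  have hM : 0 < vM.2 := by
    have h2 : 2 ≤ q := Fintype.one_lt_card
    have h3 := Nat.one_lt_pow (n := 3) (by norm_num) h2
    have h4 := Nat.one_lt_pow (n := 4) (by norm_num) h2
    have h5 := Nat.one_lt_pow (n := 2) (by norm_num) h2
    simp only [targets, List.mem_cons, List.not_mem_nil, or_false] at hvM
    rcases hvM with rfl | rfl | rfl | rfl | rfl | rfl | rfl | rfl | rfl | rfl | rfl | rfl <;>
      dsimp only <;> first | omega | exact Nat.mul_pos (by omega) (by omega)
  have hpow : (X ^ vM.2 - C 1 : Polynomial Ω) ^ 2 ^ vM.1 = X ^ (2 ^ vM.1 * vM.2) - 1 := by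
    rw [sub_pow_char_pow, C_1, one_pow, ← pow_mul, mul_comm]
  rw [← hpow]
  refine (IsAlgClosed.splits _).dvd_of_roots_le_roots (Matrix.charpoly_monic Ab).ne_zero ?_
  rw [Multiset.le_iff_count]
  intro t
  by_cases ht : t ∈ R
  · rw [Polynomial.roots_pow, Multiset.count_nsmul]
    have h1 : 1 ≤ (X ^ vM.2 - C 1 : Polynomial Ω).roots.count t := Multiset.one_le_count_iff_mem.mpr
      ((mem_roots (X_pow_sub_C_ne_zero hM 1)).mpr (by simp [(h t ht).1]))
    exact (h t ht).2.trans (Nat.le_mul_of_pos_right _ h1)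
  · rw [← hR, Multiset.count_eq_zero.mpr ht]; exact Nat.zero_le _

/-- The main bound. -/
theorem kill_target (A : Matrix.symplecticGroup (Fin 4) F) :
    ∃ vM ∈ targets (Fintype.card F), A ^ (2 ^ vM.1 * vM.2) = 1 ∧
      (finrank F (LinearMap.ker (Matrix.toLin' A.1 - 1)) ≠ 1 →
        ∑ i ∈ Finset.range (2 ^ vM.1 * vM.2), A.1 ^ i = 0) := by
  obtain ⟨vM, hvM, h⟩ := charpoly_dvd_target rfl A
  refine ⟨vM, hvM, Subtype.ext ?_, fun hfix => ?_⟩
  · obtain ⟨R, hR⟩ := h
    have := congrArg (aeval A.1) hR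
    rw [map_mul, Matrix.aeval_self_charpoly, zero_mul, map_sub, map_pow, aeval_X, map_one, sub_eq_zero] at this
    rw [SubmonoidClass.coe_pow]; exact this
  · have := (geom_zero (Matrix.toLin' A.1) (n := 2 ^ vM.1 * vM.2) (by rwa [Matrix.charpoly_toLin']) hfix).2
    refine Matrix.toLin'.injective ?_
    rw [map_zero, map_sum, ← this]
    exact Finset.sum_congr rfl fun i _ => Matrix.toLin'_pow _ _

end Symp

end CfsgLib.SpecSp8
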