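import Cfsg.Agent.Lib.SpinorNorm
import Cfsg.Agent.Lib.FiniteForms.WittBasis
import Cfsg.Agent.Lib.OrthAut.MinusInn

/-!
Quadratic spaces of plus and minus type, their orthogonal sums, and witnesses for element orders in the isometry
group and in its semidirect product with the natural module.
-/

set_option autoImplicit false
set_option linter.unusedSectionVars false

namespace CfsgLib.SpecSp8

open QuadraticMap Module CfsgLib.WittExtension CfsgLib.FiniteForms CfsgLib.SpinorNorm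

universe u v w

variable {F : Type u} [Field F] {V : Type v} [AddCommGroup V] [Module F V] {W : Type w} [AddCommGroup W]
  [Module F W]

/-- The frame of a space of plus (`true`) or minus (`false`) type. -/
def Frame (ε : Bool) (Q : QuadraticForm F V) (d : ℕ) : Prop :=
  match ε with
  | true => ∃ e f : Fin d → V, HypFam Q e f
  | false => ∃ k, k + 1 = d ∧ ∃ (e f : Fin k → V) (x y : V), HypFam Q e f ∧ x ∈ famPerp Q e f ∧
      y ∈ famPerp Q e f ∧ Q x = 1 ∧ polar Q x y = 1 ∧ ∀ t : F, t ^ 2 + t + Q y ≠ 0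

/-- A nonsingular space of dimension `2 * d` and of the given type. -/
structure IsType (ε : Bool) (Q : QuadraticForm F V) (d : ℕ) : Prop where
  nondeg : PolarNondeg Q
  rank : finrank F V = 2 * d
  frame : Frame ε Q d

theorem two_zero [CharP F 2] : (2 : F) = 0 := CharTwo.two_eq_zero

theorem pol_self [CharP F 2] (Q : QuadraticForm F V) (x : V) : polar Q x x = 0 := by
  rw [polar_self, nsmul_eq_mul, Nat.cast_ofNat, two_zero, zero_mul]

theorem li_pair [CharP F 2] {Q : QuadraticForm F V} {x y : V} (hx : Q x = 1) (hxy : polar Q x y = 1) :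
    LinearIndependent F ![x, y] := by
  rw [LinearIndependent.pair_iff]
  intro s t h
  have h1 : polar Q x (s • x + t • y) = 0 := by rw [h, polar_zero_right]
  rw [polar_add_right, polar_smul_right, polar_smul_right, pol_self, hxy] at h1
  have ht : t = 0 := by simpa using h1
  rw [ht, zero_smul, add_zero] at h
  have h2 := congrArg Q h
  rw [QuadraticMap.map_smul, hx, QuadraticMap.map_zero] at h2
  exact ⟨mul_self_eq_zero.mp (by simpa using h2), ht⟩

theorem minus_coords [CharP F 2] [FiniteDimensional F V] {Q : QuadraticForm F V} {k : ℕ}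
    (h : IsType false Q (k + 1)) : ∃ (ζ : F) (g : V ≃ₗ[F] ((Fin k ⊕ Fin k) ⊕ Fin 2 → F)),
      (∀ t : F, t ^ 2 + t + ζ ≠ 0) ∧ ∀ v, Q v = Cfsg.quadFormMinus k F 1 ζ (g v) := by
  obtain ⟨k', hk', e, f, x, y, hef, hx, hy, hQx, hxy, ht⟩ := h.frame
  obtain rfl : k' = k := by omega
  obtain ⟨g, hg⟩ := isometry_of_elliptic hef hx hy hxy hQx (li_pair hQx hxy) (by rw [h.rank]; ring)
  exact ⟨Q y, g, ht, hg⟩

theorem minus_isometric [Fintype F] [CharP F 2] {W : Type w} [AddCommGroup W] [Module F W]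
    [FiniteDimensional F V] [FiniteDimensional F W] {Q : QuadraticForm F V} {Q' : QuadraticForm F W} {d : ℕ}
    (h : IsType false Q d) (h' : IsType false Q' d) : ∃ e : V ≃ₗ[F] W, ∀ v, Q' (e v) = Q v := by
  obtain ⟨k, rfl⟩ : ∃ k, d = k + 1 := by obtain ⟨k, hk, -⟩ := h.frame; exact ⟨k, hk.symm⟩
  obtain ⟨ζ, g, hζ, hg⟩ := minus_coords h
  obtain ⟨ζ', g', hζ', hg'⟩ := minus_coords h'
  obtain ⟨P, hP⟩ := CfsgLib.OrthMinus.minus_iso (m := k) (anisotropic_of_no_root hζ') (anisotropic_of_no_root hζ)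
  refine ⟨g.trans ((Matrix.GeneralLinearGroup.toLin P).toLinearEquiv.trans g'.symm), fun v => ?_⟩
  rw [hg', hg]
  simp only [LinearEquiv.trans_apply, LinearEquiv.apply_symm_apply]
  exact (CfsgLib.StdQuadForms.Qm_apply k 1 ζ' _).symm.trans ((hP (g v)).trans (CfsgLib.StdQuadForms.Qm_apply k 1 ζ _))

theorem plus_of_singular [Finite F] [CharP F 2] [FiniteDimensional F V] {Q : QuadraticForm F V} {d : ℕ}
    (hd : 1 ≤ d) (hQ : PolarNondeg Q) (hr : finrank F V = 2 * d) (U : Submodule F V)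
    (hU : ∀ u ∈ U, Q u = 0) (hdim : finrank F U = d) : IsType true Q d := by
  rcases even_dichotomy hQ hd hr with h | ⟨e, f, x, y, h, hx, hy, hQx, hxy, ht, hli⟩
  · exact ⟨hQ, hr, h⟩
  · obtain ⟨g, hg⟩ := isometry_of_elliptic h hx hy hxy hQx hli (by omega)
    have := minus_totally_singular_le (anisotropic_of_no_root ht) (U.map g.toLinearMap) (by
      rintro _ ⟨u, hu, rfl⟩
      rw [LinearEquiv.coe_coe, ← hg, hU u hu])
    rw [LinearEquiv.finrank_map_eq, hdim] at this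
    omega

section Prod

variable (Q₁ : QuadraticForm F V) (Q₂ : QuadraticForm F W)

theorem prod_nondeg (h₁ : PolarNondeg Q₁) (h₂ : PolarNondeg Q₂) : PolarNondeg (Q₁.prod Q₂) := by
  intro x hx
  refine Prod.ext (h₁ _ fun y => ?_) (h₂ _ fun y => ?_)
  · simpa [polar_prod, polar_zero_right] using hx (y, 0)
  · simpa [polar_prod, polar_zero_right] using hx (0, y)

variable {Q₁ Q₂}

theorem hypFam_prod {a b : ℕ} {e f : Fin a → V} {e' f' : Fin b → W} (h : HypFam Q₁ e f)
    (h' : HypFam Q₂ e' f') :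
    HypFam (Q₁.prod Q₂) (Fin.append (fun i => (e i, 0)) (fun i => (0, e' i)))
      (Fin.append (fun i => (f i, 0)) (fun i => (0, f' i))) := by
  have hne : ∀ (i : Fin a) (j : Fin b), Fin.castAdd b i ≠ Fin.natAdd a j := fun i j he => by
    have := congrArg Fin.val he
    simp at this
    omega
  refine ⟨?_, ?_, ?_, ?_, ?_⟩
  · exact Fin.addCases (fun i => by simp [h.qe]) (fun i => by simp [h'.qe])
  · exact Fin.addCases (fun i => by simp [h.qf]) (fun i => by simp [h'.qf])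
  · refine Fin.addCases (fun i => ?_) (fun i => ?_) <;> refine Fin.addCases (fun j => ?_) (fun j => ?_)
    · simp [polar_prod, polar_zero_right, h.ef]
    · simp [polar_prod, polar_zero_right, polar_zero_left, hne]
    · simp [polar_prod, polar_zero_right, polar_zero_left, (hne _ _).symm]
    · simp [polar_prod, polar_zero_right, h'.ef]
  · refine Fin.addCases (fun i => ?_) (fun i => ?_) <;> refine Fin.addCases (fun j => ?_) (fun j => ?_) <;>
      simp [polar_prod, polar_zero_right, polar_zero_left, h.ee, h'.ee]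
  · refine Fin.addCases (fun i => ?_) (fun i => ?_) <;> refine Fin.addCases (fun j => ?_) (fun j => ?_) <;>
      simp [polar_prod, polar_zero_right, polar_zero_left, h.ff, h'.ff]

theorem mem_famPerp_prod {a b : ℕ} {e f : Fin a → V} {e' f' : Fin b → W} {x : W}
    (hx : x ∈ famPerp Q₂ e' f') :
    ((0 : V), x) ∈ famPerp (Q₁.prod Q₂) (Fin.append (fun i => (e i, 0)) (fun i => (0, e' i)))
      (Fin.append (fun i => (f i, 0)) (fun i => (0, f' i))) := by
  obtain ⟨he, hf⟩ := mem_famPerp.mp hx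
  refine mem_famPerp.mpr ⟨Fin.addCases (fun i => ?_) (fun i => ?_), Fin.addCases (fun i => ?_) (fun i => ?_)⟩ <;>
    simp [polar_prod, polar_zero_right, polar_zero_left, he, hf]

/-- A space of plus type does not change the type. -/
theorem IsType.plus_prod [FiniteDimensional F V] [FiniteDimensional F W] {a b : ℕ} {ε : Bool}
    (h₁ : IsType true Q₁ a) (h₂ : IsType ε Q₂ b) : IsType ε (Q₁.prod Q₂) (a + b) := by
  obtain ⟨e, f, h⟩ := h₁.frame
  refine ⟨prod_nondeg _ _ h₁.nondeg h₂.nondeg, by rw [finrank_prod, h₁.rank, h₂.rank]; ring, ?_⟩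
  cases ε
  · obtain ⟨k, rfl, e', f', x, y, h', hx, hy, hQx, hxy, ht⟩ := h₂.frame
    exact ⟨a + k, by omega, _, _, ((0 : V), x), ((0 : V), y), hypFam_prod h h', mem_famPerp_prod hx,
      mem_famPerp_prod hy, by simp [hQx], by simp [polar_prod, polar_zero_left, hxy],
      by simpa using ht⟩
  · obtain ⟨e', f', h'⟩ := h₂.frame
    exact ⟨_, _, hypFam_prod h h'⟩

/-- Two binary spaces of minus type give plus type. -/
theorem IsType.minus_minus [Fintype F] [CharP F 2] [FiniteDimensional F V] [FiniteDimensional F W]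
    (h₁ : IsType false Q₁ 1) (h₂ : IsType false Q₂ 1) : IsType true (Q₁.prod Q₂) 2 := by
  obtain ⟨e, he⟩ := minus_isometric h₁ h₂
  refine plus_of_singular (by norm_num) (prod_nondeg _ _ h₁.nondeg h₂.nondeg)
    (by rw [finrank_prod, h₁.rank, h₂.rank]) (LinearMap.range (LinearMap.id.prod e.toLinearMap)) ?_ ?_
  · rintro _ ⟨v, rfl⟩
    simp [he, CharTwo.add_self_eq_zero]
  · rw [LinearMap.finrank_range_of_inj fun x y h => congrArg Prod.fst h, h₁.rank]

end Prod

/-! ### Witnesses -/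

/-- The translation part of a power in the semidirect product. -/
def geo {Q : QuadraticForm F V} (g : quadIso Q) (n : ℕ) (v : V) : V := ∑ i ∈ Finset.range n, (g ^ i).1 v

/-- An element of the (affine) isometry group whose order is a multiple of `N`, of Dickson invariant `s`. -/
def Wit (aff : Prop) (Q : QuadraticForm F V) (N : ℕ) (s : ℤˣ) : Prop :=
  ∃ (g : quadIso Q) (v : V), dickson Q g = s ∧ (¬aff → v = 0) ∧
    ∀ n : ℕ, g ^ n = 1 → geo g n v = 0 → N ∣ n

theorem Wit.mono {aff aff' : Prop} {Q : QuadraticForm F V} {N : ℕ} {s : ℤˣ} (h : Wit aff Q N s)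
    (ha : aff → aff') : Wit aff' Q N s := by
  obtain ⟨g, v, hs, hv, hN⟩ := h
  exact ⟨g, v, hs, fun hn => hv fun x => hn (ha x), hN⟩

section Conj

variable {Q : QuadraticForm F V} {Q' : QuadraticForm F W} (e : V ≃ₗ[F] W) (h : ∀ v, Q' (e v) = Q v)

/-- Transport of isometries. -/
def conjIso : quadIso Q →* quadIso Q' where
  toFun g := ⟨e.symm.trans (g.1.trans e), fun w => by
    simp only [LinearEquiv.trans_apply]
    rw [h, g.2 _, ← h, e.apply_symm_apply]⟩
  map_one' := Subtype.ext (LinearEquiv.ext fun w => e.apply_symm_apply w)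
  map_mul' g g' := Subtype.ext (LinearEquiv.ext fun w =>
    (congrArg (fun x => e (g.1 x)) (e.symm_apply_apply _).symm))

theorem conjIso_apply (g : quadIso Q) (v : V) : (conjIso e h g).1 (e v) = e (g.1 v) :=
  congrArg (fun x => e (g.1 x)) (e.symm_apply_apply v)

theorem conjIso_injective : Function.Injective (conjIso e h) := fun g g' hgg =>
  Subtype.ext (LinearEquiv.ext fun v => e.injective (by rw [← conjIso_apply e h, hgg, conjIso_apply]))

include h in
theorem Wit.map {aff : Prop} {N : ℕ} {s : ℤˣ} [FiniteDimensional F V] [FiniteDimensional F W]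
    (hw : Wit aff Q N s) : Wit aff Q' N s := by
  obtain ⟨g, v, hs, hv, hN⟩ := hw
  refine ⟨conjIso e h g, e v, ?_, fun ha => by rw [hv ha, map_zero], fun n hn hg => hN n ?_ ?_⟩
  · have hfix : fixSpace Q' (conjIso e h g) = (fixSpace Q g).map e.toLinearMap := by
      ext w
      obtain ⟨x, rfl⟩ := e.surjective w
      rw [Submodule.mem_map_equiv, e.symm_apply_apply, mem_fix, mem_fix, conjIso_apply]
      exact e.injective.eq_iff
    rw [← hs, dickson, dickson, hfix, LinearEquiv.finrank_map_eq, e.finrank_eq]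
  · exact conjIso_injective e h (by rw [map_pow, hn, map_one])
  · refine e.injective ?_
    rw [map_zero, ← hg, geo, geo, map_sum]
    exact Finset.sum_congr rfl fun i _ => by rw [← map_pow, conjIso_apply]

include h in
theorem IsType.map {ε : Bool} {d : ℕ} (ht : IsType ε Q d) : IsType ε Q' d := by
  have hp : ∀ u v, polar Q' (e u) (e v) = polar Q u v := fun u v => by simp only [polar, ← map_add, h]
  have hfam : ∀ {k : ℕ} {a b : Fin k → V}, HypFam Q a b → HypFam Q' (e ∘ a) (e ∘ b) := fun hh =>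
    ⟨fun i => (h _).trans (hh.qe i), fun i => (h _).trans (hh.qf i), fun i j => (hp _ _).trans (hh.ef i j),
      fun i j => (hp _ _).trans (hh.ee i j), fun i j => (hp _ _).trans (hh.ff i j)⟩
  refine ⟨fun x hx => ?_, e.finrank_eq ▸ ht.rank, ?_⟩
  · obtain ⟨u, rfl⟩ := e.surjective x
    rw [ht.nondeg u fun y => by rw [← hp, hx], map_zero]
  cases ε
  · obtain ⟨k, hk, a, b, x, y, hab, hx, hy, hQx, hxy, hroot⟩ := ht.frame
    obtain ⟨hx1, hx2⟩ := mem_famPerp.mp hx
    obtain ⟨hy1, hy2⟩ := mem_famPerp.mp hy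
    exact ⟨k, hk, _, _, e x, e y, hfam hab,
      mem_famPerp.mpr ⟨fun i => (hp _ _).trans (hx1 i), fun i => (hp _ _).trans (hx2 i)⟩,
      mem_famPerp.mpr ⟨fun i => (hp _ _).trans (hy1 i), fun i => (hp _ _).trans (hy2 i)⟩,
      (h x).trans hQx, (hp _ _).trans hxy, fun t => by rw [h]; exact hroot t⟩
  · obtain ⟨a, b, hab⟩ := ht.frame
    exact ⟨_, _, hfam hab⟩

end Conj

section ProdHom

variable (Q₁ : QuadraticForm F V) (Q₂ : QuadraticForm F W)

/-- The isometry group of an orthogonal sum contains the product. -/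
def prodHom : quadIso Q₁ × quadIso Q₂ →* quadIso (Q₁.prod Q₂) where
  toFun p := ⟨p.1.1.prodCongr p.2.1, fun v => by
    simp only [QuadraticMap.prod_apply, LinearEquiv.prodCongr_apply]
    rw [p.1.2, p.2.2]⟩
  map_one' := Subtype.ext (LinearEquiv.ext fun _ => rfl)
  map_mul' _ _ := Subtype.ext (LinearEquiv.ext fun _ => rfl)

variable [FiniteDimensional F V] [FiniteDimensional F W]

theorem dickson_prod (p : quadIso Q₁ × quadIso Q₂) :
    dickson (Q₁.prod Q₂) (prodHom Q₁ Q₂ p) = dickson Q₁ p.1 * dickson Q₂ p.2 := by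
  have hm : ∀ x : V × W, x ∈ fixSpace (Q₁.prod Q₂) (prodHom Q₁ Q₂ p) ↔
      x.1 ∈ fixSpace Q₁ p.1 ∧ x.2 ∈ fixSpace Q₂ p.2 := fun x => by
    simp only [mem_fix]
    exact Prod.ext_iff
  have e : fixSpace (Q₁.prod Q₂) (prodHom Q₁ Q₂ p) ≃ₗ[F] fixSpace Q₁ p.1 × fixSpace Q₂ p.2 :=
    { toFun := fun x => (⟨x.1.1, ((hm x).mp x.2).1⟩, ⟨x.1.2, ((hm x).mp x.2).2⟩)
      invFun := fun y => ⟨(y.1.1, y.2.1), (hm _).mpr ⟨y.1.2, y.2.2⟩⟩
      map_add' := fun _ _ => rfl
      map_smul' := fun _ _ => rfl }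
  rw [dickson, dickson, dickson, e.finrank_eq, finrank_prod, finrank_prod, ← pow_add]
  congr 1
  ring

theorem Wit.prod {aff : Prop} {N₁ N₂ : ℕ} {s₁ s₂ : ℤˣ} (h₁ : Wit aff Q₁ N₁ s₁) (h₂ : Wit aff Q₂ N₂ s₂) :
    Wit aff (Q₁.prod Q₂) (Nat.lcm N₁ N₂) (s₁ * s₂) := by
  obtain ⟨g₁, v₁, hs₁, hv₁, hN₁⟩ := h₁
  obtain ⟨g₂, v₂, hs₂, hv₂, hN₂⟩ := h₂
  refine ⟨prodHom Q₁ Q₂ (g₁, g₂), (v₁, v₂), by rw [dickson_prod, hs₁, hs₂],
    fun ha => by rw [hv₁ ha, hv₂ ha]; rfl, fun n hn hg => ?_⟩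
  have hgeo : geo (prodHom Q₁ Q₂ (g₁, g₂)) n (v₁, v₂) = (geo g₁ n v₁, geo g₂ n v₂) := by
    simp only [geo]
    rw [Prod.ext_iff, Prod.fst_sum, Prod.snd_sum]
    constructor <;> refine Finset.sum_congr rfl fun i _ => ?_ <;> rw [← map_pow] <;> rfl
  rw [hgeo, Prod.mk_eq_zero] at hg
  rw [← map_pow] at hn
  refine Nat.lcm_dvd (hN₁ n (Subtype.ext (LinearEquiv.ext fun x => ?_)) hg.1)
    (hN₂ n (Subtype.ext (LinearEquiv.ext fun y => ?_)) hg.2)
  · exact congrArg Prod.fst (LinearEquiv.congr_fun (congrArg Subtype.val hn) (x, 0))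
  · exact congrArg Prod.snd (LinearEquiv.congr_fun (congrArg Subtype.val hn) (0, y))

end ProdHom

/-! ### Representations in coordinates -/

variable (F) in
/-- A witness in some space of the given type. -/
def Rep (aff : Prop) (ε : Bool) (d N : ℕ) (s : ℤˣ) : Prop :=
  ∃ Q : QuadraticForm F (Fin (2 * d) → F), IsType ε Q d ∧ Wit aff Q N s

theorem Rep.of {aff : Prop} {ε : Bool} {d N : ℕ} {s : ℤˣ} [FiniteDimensional F V] {Q : QuadraticForm F V}
    (ht : IsType ε Q d) (hw : Wit aff Q N s) : Rep F aff ε d N s := by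
  let e : V ≃ₗ[F] (Fin (2 * d) → F) :=
    (finBasisOfFinrankEq F V ht.rank).equivFun
  have h : ∀ v, (Q.comp e.symm.toLinearMap) (e v) = Q v := fun v => by
    simp [QuadraticMap.comp_apply]
  exact ⟨_, ht.map e h, hw.map e h⟩

theorem Rep.mono {aff aff' : Prop} {ε : Bool} {d N : ℕ} {s : ℤˣ} (h : Rep F aff ε d N s)
    (ha : aff → aff') : Rep F aff' ε d N s := by
  obtain ⟨Q, ht, hw⟩ := h
  exact ⟨Q, ht, hw.mono ha⟩

theorem Rep.prod {aff : Prop} {ε : Bool} {d₁ d₂ N₁ N₂ : ℕ} {s₁ s₂ : ℤˣ} (h₁ : Rep F aff true d₁ N₁ s₁)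
    (h₂ : Rep F aff ε d₂ N₂ s₂) : Rep F aff ε (d₁ + d₂) (Nat.lcm N₁ N₂) (s₁ * s₂) := by
  obtain ⟨Q₁, ht₁, hw₁⟩ := h₁
  obtain ⟨Q₂, ht₂, hw₂⟩ := h₂
  exact Rep.of (ht₁.plus_prod ht₂) (hw₁.prod Q₁ Q₂ hw₂)

theorem Rep.prod_binary [Fintype F] [CharP F 2] {aff : Prop} {N₁ N₂ : ℕ} {s₁ s₂ : ℤˣ} {ε : Bool}
    (h₁ : Rep F aff ε 1 N₁ s₁) (h₂ : Rep F aff ε 1 N₂ s₂) :
    Rep F aff true 2 (Nat.lcm N₁ N₂) (s₁ * s₂) := by
  cases ε
  · obtain ⟨Q₁, ht₁, hw₁⟩ := h₁
    obtain ⟨Q₂, ht₂, hw₂⟩ := h₂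
    exact Rep.of (ht₁.minus_minus ht₂) (hw₁.prod Q₁ Q₂ hw₂)
  · exact h₁.prod h₂

end CfsgLib.SpecSp8
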