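import Cfsg.Agent.Lib.SpecSp8.Space
import Cfsg.Agent.Lib.QuadCount
import Cfsg.Agent.Lib.SpinorMatrix
import Mathlib.FieldTheory.Finite.Extension

/-!
The pieces: tori of both types, reflections, translations, and unipotent elements of dimensions four and six.
-/

set_option autoImplicit false
set_option linter.unusedSectionVars false
set_option linter.style.haveILetI false

namespace CfsgLib.SpecSp8

open QuadraticMap Module CfsgLib.WittExtension CfsgLib.FiniteForms CfsgLib.SpinorNorm

universe u v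

section Field

variable {F : Type u} [Field F] [Fintype F] [CharP F 2]

theorem q_even : Even (Fintype.card F) :=
  Nat.even_iff.mpr (FiniteField.even_card_iff_char_two.mp (ringChar.eq F 2))

theorem exists_generator_units (K : Type*) [Field K] [Finite K] :
    ∃ t : Kˣ, orderOf t = Nat.card K - 1 := by
  obtain ⟨t, ht⟩ := IsCyclic.exists_generator (α := Kˣ)
  exact ⟨t, by rw [orderOf_eq_card_of_forall_mem_zpowers ht, Nat.card_units]⟩

theorem wit_linear {V : Type v} [AddCommGroup V] [Module F V] {Q : QuadraticForm F V} (g : quadIso Q) {N : ℕ}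
    (hN : N ∣ orderOf g) : Wit False Q N (dickson Q g) :=
  ⟨g, 0, rfl, fun _ => rfl, fun _ hn _ => hN.trans (orderOf_dvd_of_pow_eq_one hn)⟩

theorem torus_plus (d : ℕ) (hd : 1 ≤ d) : Rep F False true d (Fintype.card F ^ d - 1) 1 := by
  classical
  haveI : Fact (Nat.Prime 2) := ⟨Nat.prime_two⟩
  haveI : NeZero d := ⟨by omega⟩
  let K := FiniteField.Extension F 2 d
  have hrank : finrank F K = d := FiniteField.finrank_extension F 2 d
  let Q : QuadraticForm F (K × K) :=
    LinearMap.BilinMap.toQuadraticMap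
      ((Algebra.traceForm F K).compl₁₂ (LinearMap.fst F K K) (LinearMap.snd F K K))
  have hQ : ∀ x, Q x = Algebra.trace F K (x.1 * x.2) := fun x => rfl
  have hpol : ∀ x y : K × K, polar Q x y = Algebra.trace F K (x.1 * y.2) + Algebra.trace F K (y.1 * x.2) :=
    fun x y => LinearMap.BilinMap.polar_toQuadraticMap x y
  have hnd : PolarNondeg Q := by
    intro x hx
    refine Prod.ext ?_ ?_
    · refine (traceForm_nondegenerate F K).1 x.1 fun z => ?_
      simpa [hpol] using hx (0, z)
    · refine (traceForm_nondegenerate F K).1 x.2 fun z => ?_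
      simpa [hpol, mul_comm z] using hx (z, 0)
  have hrk : finrank F (K × K) = 2 * d := by rw [finrank_prod, hrank, two_mul]
  have htype : IsType true Q d := plus_of_singular hd hnd hrk (LinearMap.range (LinearMap.inl F K K))
    (by rintro _ ⟨z, rfl⟩; simp [hQ]) (by rw [LinearMap.finrank_range_of_inj LinearMap.inl_injective, hrank])
  obtain ⟨t, ht⟩ := exists_generator_units K
  let T : Kˣ → quadIso Q := fun s =>
    ⟨{ toFun := fun x => ((s : K) * x.1, ((s⁻¹ : Kˣ) : K) * x.2)
       invFun := fun x => (((s⁻¹ : Kˣ) : K) * x.1, (s : K) * x.2)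
       map_add' := fun x y => Prod.ext (mul_add _ _ _) (mul_add _ _ _)
       map_smul' := fun c x => Prod.ext (mul_smul_comm c _ _) (mul_smul_comm c _ _)
       left_inv := fun x => by simp [← mul_assoc]
       right_inv := fun x => by simp [← mul_assoc] },
     fun x => by
      show Q _ = Q x
      simp only [hQ, LinearEquiv.coe_mk, LinearMap.coe_mk, AddHom.coe_mk]
      rw [show (s : K) * x.1 * (((s⁻¹ : Kˣ) : K) * x.2) = ((s : K) * ((s⁻¹ : Kˣ) : K)) * (x.1 * x.2) by ring,
        Units.mul_inv, one_mul]⟩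
  let Th : Kˣ →* quadIso Q :=
    { toFun := T
      map_one' := Subtype.ext (LinearEquiv.ext fun x => by simp [T])
      map_mul' := fun a b => Subtype.ext (LinearEquiv.ext fun x => by
        refine Prod.ext ?_ ?_ <;> simp [T] <;> ring) }
  have hinj : Function.Injective Th := fun a b hab => Units.ext (by
    have := congrArg Prod.fst (LinearEquiv.congr_fun (congrArg Subtype.val hab) ((1 : K), (0 : K)))
    simpa [Th, T] using this)
  have hord : Fintype.card F ^ d - 1 ∣ orderOf (Th t) := by
    rw [orderOf_injective Th hinj, ht, FiniteField.natCard_extension, Nat.card_eq_fintype_card]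
  have hs : dickson Q (Th t) = 1 := by
    by_cases h1 : t = 1
    · rw [h1, map_one, dickson_one]
    · have hfix : fixSpace Q (Th t) = ⊥ := by
        rw [Submodule.eq_bot_iff]
        intro x hx
        rw [mem_fix] at hx
        have h' : ∀ z : K, (t : K) * z = z → z = 0 := fun z hz => by
          by_contra hz0
          exact h1 (Units.ext ((mul_left_eq_self₀.mp hz).resolve_right hz0))
        refine Prod.ext (h' _ (congrArg Prod.fst hx)) (h' _ ?_)
        have h2 := congrArg Prod.snd hx
        change ((t⁻¹ : Kˣ) : K) * x.2 = x.2 at h2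
        nth_rewrite 1 [← h2]
        rw [Units.mul_inv_cancel_left]
      rw [dickson, hfix, finrank_bot, hrk, add_zero, pow_mul]
      simp
  exact hs ▸ Rep.of htype (wit_linear _ hord)

theorem torus_minus (d : ℕ) (hd : 1 ≤ d) : Rep F False false d (Fintype.card F ^ d + 1) 1 := by
  classical
  haveI : Fact (Nat.Prime 2) := ⟨Nat.prime_two⟩
  haveI : NeZero (2 * d) := ⟨by omega⟩
  let K := FiniteField.Extension F 2 (2 * d)
  haveI : CharP K 2 := charP_of_injective_algebraMap (algebraMap F K).injective 2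
  have hrk : finrank F K = 2 * d := FiniteField.finrank_extension F 2 (2 * d)
  set q := Fintype.card F with hq
  have hq2 : 2 ≤ q := Fintype.one_lt_card
  have hqd : 2 ≤ q ^ d := hq2.trans (Nat.le_self_pow (by omega) q)
  have hcard : Nat.card K = q ^ (2 * d) := by rw [FiniteField.natCard_extension, Nat.card_eq_fintype_card]
  have hfac : q ^ (2 * d) - 1 = (q ^ d + 1) * (q ^ d - 1) := by
    rw [mul_comm 2 d, pow_mul]; simpa using Nat.sq_sub_sq (q ^ d) 1
  let σ : K ≃ₐ[F] K := FiniteField.Extension.frob F 2 (2 * d) ^ d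
  have hσ : ∀ x : K, σ x = x ^ q ^ d := fun x => by
    rw [hq, ← Nat.card_eq_fintype_card]
    exact FiniteField.Extension.frob_iterate_apply F 2 (2 * d) d
  have hσσ : ∀ x : K, σ (σ x) = x := fun x => by
    haveI := Fintype.ofFinite K
    rw [hσ, hσ, ← pow_mul, ← pow_add, ← two_mul, ← hcard, Nat.card_eq_fintype_card, FiniteField.pow_card]
  obtain ⟨t, ht⟩ := exists_generator_units K
  rw [hcard] at ht
  set γ : K := (t : K) with hγ
  have hc : γ + σ γ ≠ 0 := fun h => by
    rw [CharTwo.add_eq_zero, hσ] at h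
    have h1 : t ^ (q ^ d - 1) = 1 := Units.ext (by
      rw [Units.val_pow_eq_pow_val, Units.val_one, ← hγ]
      refine mul_right_cancel₀ t.ne_zero ?_
      rw [← pow_succ, Nat.sub_add_cancel (by omega), one_mul, ← h])
    have h2 := Nat.le_of_dvd (by omega) (orderOf_dvd_of_pow_eq_one h1)
    rw [ht, hfac] at h2
    have : 2 * (q ^ d - 1) ≤ (q ^ d + 1) * (q ^ d - 1) := Nat.mul_le_mul_right _ (by omega)
    omega
  let Q : QuadraticForm F K := LinearMap.BilinMap.toQuadraticMap
    ((Algebra.traceForm F K).compl₁₂ (LinearMap.mulLeft F γ) σ.toLinearMap)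
  have hQ : ∀ x, Q x = Algebra.trace F K (γ * x * σ x) := fun x => rfl
  have hpol : ∀ x y : K, polar Q x y = Algebra.trace F K ((γ + σ γ) * (x * σ y)) := fun x y => by
    refine (LinearMap.BilinMap.polar_toQuadraticMap x y).trans ?_
    show Algebra.trace F K (γ * x * σ y) + Algebra.trace F K (γ * y * σ x) = _
    rw [← Algebra.trace_eq_of_algEquiv σ (γ * y * σ x), map_mul σ, map_mul σ, hσσ, ← map_add]
    congr 1
    ring
  have hnd : PolarNondeg Q := fun x hx => by
    have h0 : (γ + σ γ) * x = 0 := (traceForm_nondegenerate F K).1 _ fun z => by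
      have := hx (σ z)
      rw [hpol, hσσ, ← mul_assoc] at this
      exact this
    exact (mul_eq_zero.mp h0).resolve_left hc
  obtain ⟨w, hw, hwσ⟩ : ∃ w : Kˣ, orderOf w = q ^ d + 1 ∧ (w : K) * σ w = 1 := by
    refine ⟨t ^ (q ^ d - 1), ?_, ?_⟩
    · rw [orderOf_pow' t (by omega), ht, hfac, Nat.gcd_mul_left_left, Nat.mul_div_cancel _ (by omega)]
    · have h1 : (t ^ (q ^ d - 1)) ^ (q ^ d + 1) = 1 := by
        have h2 := pow_orderOf_eq_one t
        rw [ht, hfac] at h2
        rw [← pow_mul, mul_comm (q ^ d - 1)]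
        exact h2
      rw [hσ, ← pow_succ', ← Units.val_pow_eq_pow_val, h1, Units.val_one]
  have hinv : ∀ x, Q ((w : K) * x) = Q x := fun x => by
    rw [hQ, hQ, map_mul σ]
    rw [show γ * ((w : K) * x) * (σ w * σ x) = ((w : K) * σ w) * (γ * x * σ x) by ring, hwσ, one_mul]
  have htype : IsType false Q d := by
    rcases even_dichotomy hnd hd hrk with ⟨e, f, hef⟩ | ⟨e, f, x, y, h, hx, hy, hQx, hxy, hroot, -⟩
    swap
    · exact ⟨hnd, hrk, d - 1, by omega, e, f, x, y, h, hx, hy, hQx, hxy, hroot⟩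
    exfalso
    obtain ⟨g, hg⟩ := isometry_of_hypFam hef hrk
    have hc0 : Set.ncard {v : K | Q v = 0} = q ^ (2 * d - 1) + q ^ d - q ^ (d - 1) := by
      rw [← Nat.card_coe_set_eq, hq, ← CfsgLib.QuadCount.card_plus d hd]
      exact Nat.card_congr (g.toEquiv.subtypeEquiv fun v => by
        show Q v = 0 ↔ _
        rw [hg]; rfl)
    let U := Subgroup.zpowers w
    let S : Set Kˣ := {z | Q (z : K) = 0}
    have hsat : (QuotientGroup.mk : Kˣ → Kˣ ⧸ U) ⁻¹' (QuotientGroup.mk '' S) = S := by
      refine Set.Subset.antisymm ?_ (Set.subset_preimage_image _ _)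
      rintro z ⟨z', hz', he⟩
      obtain ⟨i, hi⟩ : ∃ i : ℕ, w ^ i = z'⁻¹ * z := by
        have hm : z'⁻¹ * z ∈ U := QuotientGroup.eq.mp he
        exact (mem_zpowers_iff_mem_range_orderOf.mp hm) |> fun h => by
          obtain ⟨i, -, hi⟩ := Finset.mem_image.mp h
          exact ⟨i, hi⟩
      have hz : z = w ^ i * z' := by rw [hi, mul_comm (z'⁻¹ * z), mul_inv_cancel_left]
      have key : ∀ j : ℕ, Q ((w : K) ^ j * (z' : K)) = 0 := fun j => by
        induction j with
        | zero => rw [pow_zero, one_mul]; exact hz'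
        | succ j ih => rw [pow_succ', mul_assoc, hinv]; exact ih
      show Q (z : K) = 0
      rw [hz, Units.val_mul, Units.val_pow_eq_pow_val]
      exact key i
    have hS : Nat.card S = (q ^ d + 1) * Nat.card (QuotientGroup.mk '' S : Set (Kˣ ⧸ U)) := by
      conv_lhs => rw [← hsat]
      rw [Nat.card_congr (QuotientGroup.preimageMkEquivSubgroupProdSet U _), Nat.card_prod, Nat.card_zpowers, hw]
    have hset : {v : K | Q v = 0} = insert 0 (Units.val '' S) := by
      ext v
      simp only [Set.mem_ofPred_eq, Set.mem_insert_iff, Set.mem_image]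
      constructor
      · intro hv
        rcases eq_or_ne v 0 with h | h
        · exact Or.inl h
        · exact Or.inr ⟨Units.mk0 v h, hv, rfl⟩
      · rintro (rfl | ⟨z, hz, rfl⟩)
        · exact QuadraticMap.map_zero Q
        · exact hz
    rw [hset, Set.ncard_insert_of_notMem (by rintro ⟨z, -, hz⟩; exact z.ne_zero hz),
      Set.ncard_image_of_injective _ Units.val_injective, ← Nat.card_coe_set_eq, hS] at hc0
    set A := q ^ (d - 1) with hA
    have hA1 : 1 ≤ A := Nat.one_le_pow _ _ (by omega)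
    have hqA : q ^ d = q * A := by rw [hA, ← pow_succ']; congr 1; omega
    have hqA2 : q ^ (2 * d - 1) = q * A * A := by
      rw [hA, mul_assoc, ← pow_add, ← pow_succ']; congr 1; omega
    rw [hqA, hqA2] at hc0
    have hpos : A + 1 ≤ q * A := by nlinarith
    have hdvd : q * A + 1 ∣ (q * A - 1) * (A + 1) := by
      refine ⟨Nat.card (QuotientGroup.mk '' S : Set (Kˣ ⧸ U)), ?_⟩
      have : (q * A - 1) * (A + 1) + 1 = q * A * A + q * A - A := by
        rw [tsub_mul, mul_add, mul_one, one_mul]
        have : A + 1 ≤ q * A * A + q * A := hpos.trans (Nat.le_add_left _ _)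
        omega
      omega
    have hcop : Nat.Coprime (q * A + 1) (q * A - 1) := by
      have hev : Even (q * A) := (q_even (F := F)).mul_right A
      rw [show q * A + 1 = 2 + (q * A - 1) by omega, Nat.coprime_add_self_left]
      exact Nat.coprime_two_left.mpr (Nat.Even.sub_odd (by omega) hev odd_one)
    have := Nat.le_of_dvd (by omega) (hcop.dvd_of_dvd_mul_left hdvd)
    have : 2 * A ≤ q * A := Nat.mul_le_mul_right _ hq2
    omega
  let M : quadIso Q := ⟨LinearEquiv.ofInjectiveEndo (LinearMap.mulLeft F (w : K))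
    (mul_right_injective₀ w.ne_zero), hinv⟩
  have hpow : ∀ (i : ℕ) (x : K), (M ^ i).1 x = (w : K) ^ i * x := fun i => by
    induction i with
    | zero => intro x; simp
    | succ i ih =>
      intro x
      rw [pow_succ]
      show (M ^ i).1 ((w : K) * x) = _
      rw [ih, pow_succ, mul_assoc]
  have hord : q ^ d + 1 ∣ orderOf M := by
    rw [← hw]
    refine orderOf_dvd_of_pow_eq_one (Units.ext ?_)
    have := hpow (orderOf M) 1
    rw [pow_orderOf_eq_one, mul_one] at this
    rw [Units.val_pow_eq_pow_val, ← this]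
    rfl
  have hs : dickson Q M = 1 := by
    have hne : (w : K) ≠ 1 := fun h => by
      rw [Units.val_eq_one] at h
      rw [h, orderOf_one] at hw
      omega
    have hfix : fixSpace Q M = ⊥ := by
      rw [Submodule.eq_bot_iff]
      intro x hx
      rw [mem_fix] at hx
      exact (mul_left_eq_self₀.mp hx).resolve_left hne
    rw [dickson, hfix, finrank_bot, hrk, add_zero, pow_mul]
    simp
  exact hs ▸ Rep.of htype (wit_linear _ hord)

theorem exists_binary (ε : Bool) : ∃ Q : QuadraticForm F (Fin 2 → F), IsType ε Q 1 := by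
  cases ε
  · obtain ⟨Q, h, -⟩ := torus_minus (F := F) 1 le_rfl
    exact ⟨Q, h⟩
  · obtain ⟨Q, h, -⟩ := torus_plus (F := F) 1 le_rfl
    exact ⟨Q, h⟩

theorem refl_rep (ε : Bool) : Rep F False ε 1 2 (-1) := by
  obtain ⟨Q, h⟩ := exists_binary (F := F) ε
  have hnd := CfsgLib.OrthOrder.nondegenerate_of h.nondeg
  obtain ⟨v, hv⟩ := CfsgLib.SpinorMatrix.exists_anisotropic_pos Q hnd (by rw [h.rank]; norm_num)
  have hs : dickson Q (refl Q hv) = -1 := by rw [← mul_one (refl Q hv), dickson_refl_mul Q hnd hv, dickson_one]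
  have hord : orderOf (refl Q hv) = 2 := by
    refine orderOf_eq_prime (by rw [pow_two, refl_mul_self]) fun h1 => ?_
    rw [h1, dickson_one] at hs
    exact absurd hs (by decide)
  exact hs ▸ Rep.of h (wit_linear _ hord.symm.dvd)

theorem trans_rep (ε : Bool) : Rep F True ε 1 2 1 := by
  obtain ⟨Q, h⟩ := exists_binary (F := F) ε
  refine Rep.of h ⟨1, Pi.single 0 1, dickson_one Q, fun hn => absurd trivial hn, fun n _ hg => ?_⟩
  have h0 := congrFun hg 0
  simp [geo] at h0
  exact (CharP.cast_eq_zero_iff F 2 n).mp h0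

end Field

section Extend

variable {F : Type u} [Field F] [CharP F 2]

/-- An isometry as an endomorphism. -/
def toEnd {V : Type v} [AddCommGroup V] [Module F V] (Q : QuadraticForm F V) : quadIso Q →* Module.End F V where
  toFun g := g.1.toLinearMap
  map_one' := rfl
  map_mul' _ _ := rfl

theorem toEnd_apply {V : Type v} [AddCommGroup V] [Module F V] (Q : QuadraticForm F V) (g : quadIso Q) (x : V) :
    toEnd Q g x = g.1 x := rfl

/-- The difference to the identity. -/
abbrev nl {V : Type v} [AddCommGroup V] [Module F V] (Q : QuadraticForm F V) (g : quadIso Q) : Module.End F V :=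
  toEnd Q g - 1

theorem toEnd_injective {V : Type v} [AddCommGroup V] [Module F V] (Q : QuadraticForm F V) :
    Function.Injective (toEnd Q) := fun _ _ h => Subtype.ext (LinearEquiv.toLinearMap_injective h)

theorem end_two {V : Type v} [AddCommGroup V] [Module F V] (x : Module.End F V) : x + x = 0 :=
  LinearMap.ext fun v => by
    rw [LinearMap.add_apply, ← two_smul F, two_zero, zero_smul]; rfl

theorem unip_pow {V : Type v} [AddCommGroup V] [Module F V] (D : Module.End F V) :
    ∀ k : ℕ, (1 + D) ^ 2 ^ k = 1 + D ^ 2 ^ k := by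
  intro k
  induction k with
  | zero => simp
  | succ k ih =>
    rw [pow_succ 2 k, pow_mul, ih, pow_mul, pow_two, pow_two (D ^ 2 ^ k), add_mul, mul_add, mul_add, one_mul,
      one_mul, mul_one, add_assoc, ← add_assoc (D ^ 2 ^ k), end_two, zero_add]

variable {W : Type v} [AddCommGroup W] [Module F W] (Q : QuadraticForm F W) (g : quadIso Q) (z : W)

/-- The linear map `extend - 1`. -/
def dmap : Module.End F ((F × F) × W) where
  toFun x := ((polar Q (g.1 x.2) z + x.1.2 * Q z, 0), g.1 x.2 - x.2 + x.1.2 • z)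
  map_add' x y := by
    refine Prod.ext (Prod.ext ?_ (by simp)) ?_
    · simp [polar_add_left]; ring
    · simp [add_smul]; abel
  map_smul' c x := by
    refine Prod.ext (Prod.ext ?_ (by simp)) ?_
    · simp [polar_smul_left]; ring
    · simp [smul_smul, smul_sub]

theorem dmap_apply (x : (F × F) × W) :
    dmap Q g z x = ((polar Q (g.1 x.2) z + x.1.2 * Q z, 0), g.1 x.2 - x.2 + x.1.2 • z) := rfl

theorem one_add_dmap (x : (F × F) × W) :
    (1 + dmap Q g z) x = ((x.1.1 + polar Q (g.1 x.2) z + x.1.2 * Q z, x.1.2), g.1 x.2 + x.1.2 • z) := by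
  refine Prod.ext (Prod.ext ?_ ?_) ?_ <;> simp [dmap_apply, add_assoc] <;> abel

variable [FiniteDimensional F W]

/-- The Eichler transformation composed with `g`. -/
noncomputable def extend : quadIso (CfsgLib.OrthOrder.Qh Q) :=
  ⟨LinearEquiv.ofInjectiveEndo (1 + dmap Q g z) (by
    rw [injective_iff_map_eq_zero]
    intro x hx
    rw [one_add_dmap, Prod.mk_eq_zero, Prod.mk_eq_zero] at hx
    obtain ⟨⟨ha, hb⟩, hw⟩ := hx
    rw [hb, zero_smul, add_zero, LinearEquiv.map_eq_zero_iff] at hw
    rw [hw, map_zero, hb, polar_zero_left, zero_mul, add_zero, add_zero] at ha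
    exact Prod.ext (Prod.ext ha hb) hw), fun x => by
    rw [LinearEquiv.coe_ofInjectiveEndo, one_add_dmap]
    simp only [CfsgLib.OrthOrder.Qh_apply]
    rw [QuadraticMap.map_add Q, QuadraticMap.map_smul, polar_smul_right, g.2, smul_eq_mul, smul_eq_mul]
    linear_combination (x.1.2 * polar Q (g.1 x.2) z + x.1.2 * x.1.2 * Q z) * (two_zero : (2 : F) = 0)⟩

theorem toEnd_extend : toEnd _ (extend Q g z) = 1 + dmap Q g z := rfl

theorem mem_fix_pow (n : ℕ) (D' : Module.End F ((F × F) × W))
    (h : toEnd _ (extend Q g z ^ n) = 1 + D') (x : (F × F) × W) :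
    x ∈ fixSpace _ (extend Q g z ^ n) ↔ D' x = 0 := by
  rw [mem_fix, show (extend Q g z ^ n).1 x = toEnd _ (extend Q g z ^ n) x from rfl, h, LinearMap.add_apply,
    Module.End.one_apply, add_eq_left]

theorem dmap_iter (j : ℕ) (x : (F × F) × W) :
    (dmap Q g z ^ (j + 2)) x =
      ((polar Q (g.1 ((nl Q g ^ j) (g.1 x.2 - x.2 + x.1.2 • z))) z, 0),
        (nl Q g ^ (j + 1)) (g.1 x.2 - x.2 + x.1.2 • z)) := by
  induction j with
  | zero =>
    rw [pow_two, Module.End.mul_apply, dmap_apply, dmap_apply]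
    simp [toEnd_apply]
  | succ j ih =>
    rw [pow_succ', Module.End.mul_apply, ih, dmap_apply, pow_succ' _ (j + 1), Module.End.mul_apply]
    simp [toEnd_apply]

theorem dmap_nil {k : ℕ} (hk : nl Q g ^ k = 0) : dmap Q g z ^ (k + 2) = 0 :=
  LinearMap.ext fun x => by
    rw [dmap_iter, hk, pow_succ', hk, mul_zero]
    simp [polar_zero_left]

theorem dmap_at (j : ℕ) :
    (dmap Q g z ^ (j + 2)) ((0, 1), 0) =
      ((polar Q (g.1 ((nl Q g ^ j) z)) z, 0), (nl Q g ^ (j + 1)) z) := by
  rw [dmap_iter]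
  simp

theorem isType_Qh [Fintype F] {ε : Bool} {d : ℕ} (h : IsType ε Q d) :
    IsType ε (CfsgLib.OrthOrder.Qh Q) (1 + d) := by
  let Q0 : QuadraticForm F (F × F) := QuadraticMap.linMulLin (LinearMap.fst F F F) (LinearMap.snd F F F)
  have hQ0 : ∀ x, Q0 x = x.1 * x.2 := fun x => rfl
  have hp : ∀ x y, polar Q0 x y = x.1 * y.2 + y.1 * x.2 := fun x y => by simp [polar, hQ0]; ring
  refine (show IsType true Q0 1 from ⟨fun x hx => ?_, by simp, ![(1, 0)], ![(0, 1)], ?_⟩).plus_prod h
  · have h1 := hx (1, 0)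
    have h2 := hx (0, 1)
    simp [hp] at h1 h2
    exact Prod.ext h2 h1
  · constructor <;> intros <;> simp [hQ0, hp, Fin.fin_one_eq_zero]

end Extend

section Unipotent

variable {F : Type u} [Field F] [Fintype F] [CharP F 2]

theorem geo_mul {V : Type v} [AddCommGroup V] [Module F V] {Q : QuadraticForm F V} {g : quadIso Q} {m : ℕ}
    (h : g ^ m = 1) (k : ℕ) (v : V) : geo g (m * k) v = (k : F) • geo g m v := by
  induction k with
  | zero => simp [geo]
  | succ k ih =>
    rw [mul_add, mul_one, Nat.cast_succ, add_smul, one_smul, ← ih, geo, Finset.sum_range_add]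
    refine congrArg₂ (· + ·) rfl (Finset.sum_congr rfl fun i _ => ?_)
    rw [pow_add, pow_mul, h, one_pow, one_mul]

theorem two_dvd_of_smul {V : Type v} [AddCommGroup V] [Module F V] {k : ℕ} {x : V}
    (h : (k : F) • x = 0) (hx : x ≠ 0) : 2 ∣ k :=
  (CharP.cast_eq_zero_iff F 2 k).mp ((smul_eq_zero.mp h).resolve_right hx)

/-- The four-dimensional facts. -/
theorem unip_four (ε : Bool) :
    ∃ (Q : QuadraticForm F (Fin 2 → F)) (g : quadIso (CfsgLib.OrthOrder.Qh Q)) (f : (F × F) × (Fin 2 → F)),
      IsType ε (CfsgLib.OrthOrder.Qh Q) 2 ∧ g ^ 4 = 1 ∧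
      nl _ g ^ 4 = 0 ∧ (nl _ g ^ 3) f ≠ 0 ∧
      dickson _ g = -1 ∧ dickson _ (g ^ 2) = 1 := by
  obtain ⟨Q, h⟩ := exists_binary (F := F) ε
  have hnd := CfsgLib.OrthOrder.nondegenerate_of h.nondeg
  obtain ⟨v, hv⟩ := CfsgLib.SpinorMatrix.exists_anisotropic_pos Q hnd (by rw [h.rank]; norm_num)
  have hv0 : v ≠ 0 := fun h0 => hv (by rw [h0, QuadraticMap.map_zero])
  obtain ⟨z, hz⟩ : ∃ z, polar Q v z ≠ 0 := by
    by_contra hn
    push Not at hn
    exact hv0 (h.nondeg v hn)
  set r := refl Q hv with hr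
  set c : (Fin 2 → F) → F := fun x => -((Q v)⁻¹ * polar Q v x) with hc
  have hN : ∀ x, nl Q r x = c x • v := fun x => by
    show r.1 x - x = _
    rw [hr, refl_apply, add_sub_cancel_left]
  have hcv : c v = 0 := by simp [hc, pol_self, two_zero]
  have hcz : c z ≠ 0 := by simp [hc, hv, hz]
  have hrv : r.1 v = v := by rw [hr, refl_apply, pol_self]; simp
  have hN2 : nl Q r ^ 2 = 0 := LinearMap.ext fun x => by
    rw [pow_two, Module.End.mul_apply, hN x, map_smul, hN, hcv, zero_smul, smul_zero]; rfl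
  set D := dmap Q r z with hD
  set E := extend Q r z with hE
  have hED : nl _ E = D := by rw [nl, hE, toEnd_extend, add_sub_cancel_left]
  have hD4 : D ^ 4 = 0 := dmap_nil Q r z hN2
  have hE2 : toEnd _ (E ^ 2) = 1 + D ^ 2 := by
    rw [map_pow, hE, toEnd_extend, ← hD]; exact unip_pow D 1
  have hE4 : E ^ 4 = 1 := toEnd_injective _ (by
    rw [map_pow, hE, toEnd_extend, ← hD, show (4 : ℕ) = 2 ^ 2 from rfl, unip_pow, show D ^ 2 ^ 2 = 0 from hD4,
      add_zero, map_one])
  have hD3 : (D ^ 3) (((0 : F), (1 : F)), 0) ≠ 0 := by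
    rw [hD, dmap_at Q r z 1, pow_one, hN, map_smul, hrv, polar_smul_left]
    intro h0
    exact mul_ne_zero hcz hz (congrArg (fun p => p.1.1) h0)
  have hli : LinearIndependent F ![v, z] := by
    rw [LinearIndependent.pair_iff]
    intro s t hst
    have h1 : polar Q v (s • v + t • z) = 0 := by rw [hst, polar_zero_right]
    rw [polar_add_right, polar_smul_right, polar_smul_right, pol_self] at h1
    have ht : t = 0 := by simpa [hz] using h1
    rw [ht, zero_smul, add_zero] at hst
    exact ⟨(smul_eq_zero.mp hst).resolve_right hv0, ht⟩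
  have hspan : ∀ x : Fin 2 → F, polar Q v x = 0 → ∃ s : F, x = s • v := fun x hx => by
    have hm : x ∈ Submodule.span F (Set.range ![v, z]) := by
      rw [hli.span_eq_top_of_card_eq_finrank' (by simp)]; trivial
    rw [Matrix.range_cons_cons_empty, Submodule.mem_span_pair] at hm
    obtain ⟨s, t, rfl⟩ := hm
    rw [polar_add_right, polar_smul_right, polar_smul_right, pol_self] at hx
    have : t = 0 := by simpa [hz] using hx
    exact ⟨s, by rw [this, zero_smul, add_zero]⟩
  have hrk : finrank F ((F × F) × (Fin 2 → F)) = 4 := by simp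
  refine ⟨Q, E, ((0, 1), 0), isType_Qh Q h, hE4, by rw [hED, hD4], by rw [hED]; exact hD3, ?_, ?_⟩
  · have hfix : fixSpace _ (E ^ 1) = Submodule.span F {(((1 : F), (0 : F)), (0 : Fin 2 → F))} := by
      ext x
      rw [mem_fix_pow Q r z 1 D (by rw [pow_one, toEnd_extend]), Submodule.mem_span_singleton]
      constructor
      · intro hx
        rw [hD, dmap_apply, Prod.mk_eq_zero, Prod.mk_eq_zero] at hx
        obtain ⟨⟨ha, -⟩, hw⟩ := hx
        rw [show r.1 x.2 - x.2 = c x.2 • v from hN x.2] at hw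
        have hb : x.1.2 = 0 := by
          have h1 : polar Q v (c x.2 • v + x.1.2 • z) = 0 := by rw [hw, polar_zero_right]
          rw [polar_add_right, polar_smul_right, polar_smul_right, pol_self] at h1
          simpa [hz] using h1
        rw [hb, zero_smul, add_zero] at hw
        have hcx : c x.2 = 0 := (smul_eq_zero.mp hw).resolve_right hv0
        obtain ⟨s, hs⟩ := hspan x.2 (by simpa [hc, hv] using hcx)
        rw [hs, map_smul, hrv, polar_smul_left, hb, zero_mul, add_zero, smul_eq_mul] at ha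
        rw [(mul_eq_zero.mp ha).resolve_right hz, zero_smul] at hs
        exact ⟨x.1.1, Prod.ext (Prod.ext (by simp) (by simp [hb])) (by simp [hs])⟩
      · rintro ⟨a, rfl⟩
        simp [hD, dmap_apply, polar_zero_left]
    rw [← pow_one E, dickson, hfix, finrank_span_singleton (by simp), hrk]
    decide
  · let L : F × F →ₗ[F] (F × F) × (Fin 2 → F) :=
      (((LinearMap.inl F F F).comp (LinearMap.fst F F F))).prod ((LinearMap.snd F F F).smulRight v)
    have hL : ∀ p : F × F, L p = ((p.1, 0), p.2 • v) := fun p => rfl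
    have hfix : fixSpace _ (E ^ 2) = LinearMap.range L := by
      ext x
      rw [mem_fix_pow Q r z 2 _ hE2, LinearMap.mem_range, hD, dmap_iter Q r z 0]
      simp only [pow_zero, Module.End.one_apply, zero_add, pow_one, hN, map_add, map_smul,
        show ∀ y, r.1 y - y = c y • v from hN, hrv, Prod.mk_eq_zero]
      constructor
      · rintro ⟨⟨ha, -⟩, hw⟩
        have hb : x.1.2 = 0 := by simpa [hN, hcv, hcz, hv0, hc, polar_add_right, polar_smul_right, pol_self, two_zero, hv, hz] using hw
        rw [hb, zero_smul, add_zero, polar_smul_left, smul_eq_mul] at ha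
        have hcx : c x.2 = 0 := (mul_eq_zero.mp ha).resolve_right hz
        obtain ⟨s, hs⟩ := hspan x.2 (by simpa [hc, hv] using hcx)
        exact ⟨(x.1.1, s), by rw [hL]; exact Prod.ext (Prod.ext rfl hb.symm) hs.symm⟩
      · rintro ⟨p, rfl⟩
        simp [hL, hc, pol_self, two_zero, polar_zero_left, polar_smul_right]
    have hLi : Function.Injective L := fun p p' hp => by
      rw [hL, hL, Prod.mk.injEq, Prod.mk.injEq] at hp
      exact Prod.ext hp.1.1 (smul_left_injective F hv0 hp.2)
    rw [dickson, hfix, LinearMap.finrank_range_of_inj hLi, hrk, finrank_prod, finrank_self]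
    decide

theorem geo_four {V : Type v} [AddCommGroup V] [Module F V] {Q : QuadraticForm F V} (g : quadIso Q) (v : V) :
    geo g 4 v = (nl Q g ^ 3) v := by
  have h : ∑ i ∈ Finset.range 4, toEnd Q g ^ i = nl Q g ^ 3 := by
    set D := toEnd Q g - 1 with hD
    rw [show toEnd Q g = 1 + D by rw [hD, add_sub_cancel]]
    have h2 : (1 + D) ^ 2 = 1 + D ^ 2 := unip_pow D 1
    have h3 : (1 + D) ^ 3 = (1 + D) + (D ^ 2 + D ^ 3) := by
      rw [pow_succ, h2, add_mul, one_mul, mul_add, mul_one, ← pow_succ]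
    simp only [Finset.sum_range_succ, Finset.sum_range_zero, pow_zero, pow_one, h2, h3, zero_add]
    calc 1 + (1 + D) + (1 + D ^ 2) + (1 + D + (D ^ 2 + D ^ 3))
        = (1 + 1) + (1 + 1) + (D + D) + (D ^ 2 + D ^ 2) + D ^ 3 := by abel
      _ = D ^ 3 := by simp only [end_two, zero_add]
  rw [← h, geo, LinearMap.sum_apply]
  exact Finset.sum_congr rfl fun i _ => by rw [← map_pow]; rfl

theorem four_dvd_order {V : Type v} [AddCommGroup V] [Module F V] {Q : QuadraticForm F V} {g : quadIso Q}
    {f : V} (h4 : g ^ 4 = 1) (h3 : (nl Q g ^ 3) f ≠ 0) : orderOf g = 4 := by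
  refine orderOf_eq_prime_pow (p := 2) (n := 1) (fun h2 => h3 ?_) h4
  have := congrArg (toEnd Q) h2
  rw [map_pow, map_one, show toEnd Q g = 1 + (toEnd Q g - 1) by rw [add_sub_cancel], unip_pow, add_eq_left,
    pow_one] at this
  rw [pow_succ', Module.End.mul_apply, this]
  simp

/-- Order four, and its affine refinements. -/
theorem four_rep (ε : Bool) :
    Rep F False ε 2 4 (-1) ∧ Rep F True ε 2 8 (-1) ∧ Rep F True ε 2 4 1 := by
  obtain ⟨Q, g, f, ht, h4, -, h3, hs, hs2⟩ := unip_four (F := F) ε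
  have hord := four_dvd_order h4 h3
  refine ⟨hs ▸ Rep.of ht (wit_linear g hord.symm.dvd), Rep.of ht ⟨g, f, hs, fun hn => absurd trivial hn,
    fun n hn hg => ?_⟩, Rep.of ht ⟨g ^ 2, f, hs2, fun hn => absurd trivial hn, fun n hn hg => ?_⟩⟩
  · obtain ⟨k, rfl⟩ : 4 ∣ n := hord ▸ orderOf_dvd_of_pow_eq_one hn
    rw [geo_mul h4, geo_four] at hg
    obtain ⟨l, rfl⟩ := two_dvd_of_smul hg h3
    exact ⟨l, by ring⟩
  · have h22 : (g ^ 2) ^ 2 = 1 := by rw [← pow_mul]; exact h4
    obtain ⟨k, rfl⟩ : 2 ∣ n := by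
      have hd : 4 ∣ 2 * n := hord ▸ orderOf_dvd_of_pow_eq_one (by rw [pow_mul]; exact hn)
      omega
    rw [geo_mul h22] at hg
    have hne : geo (g ^ 2) 2 f ≠ 0 := by
      intro h0
      apply h3
      rw [geo, Finset.sum_range_succ, Finset.sum_range_one, pow_zero, pow_one] at h0
      have hg2 : (g ^ 2).1 f = f + (nl _ g ^ 2) f := by
        have hu := LinearMap.congr_fun (unip_pow (nl (CfsgLib.OrthOrder.Qh Q) g) 1) f
        rw [pow_one] at hu
        rw [show (g ^ 2).1 f = toEnd _ (g ^ 2) f from rfl, map_pow,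
          show toEnd _ g = 1 + nl _ g by rw [add_sub_cancel], hu]
        rfl
      rw [hg2, show (1 : quadIso (CfsgLib.OrthOrder.Qh Q)).1 f = f from rfl, ← add_assoc, ← two_smul F,
        two_zero, zero_smul, zero_add] at h0
      rw [pow_succ', Module.End.mul_apply, h0, map_zero]
    obtain ⟨l, rfl⟩ := two_dvd_of_smul hg hne
    exact ⟨l, by ring⟩

/-- Order eight in dimension six. -/
theorem eight_rep (ε : Bool) : ∃ s, Rep F False ε 3 8 s := by
  obtain ⟨Q, g, f, ht, -, hN4, h3, -, -⟩ := unip_four (F := F) ε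
  set E := extend (CfsgLib.OrthOrder.Qh Q) g f with hE
  set D := dmap (CfsgLib.OrthOrder.Qh Q) g f with hD
  have h8 : E ^ 8 = 1 := toEnd_injective _ (by
    rw [map_pow, hE, toEnd_extend, ← hD, show (8 : ℕ) = 2 ^ 3 from rfl, unip_pow,
      show (2 : ℕ) ^ 3 = (4 + 2) + 2 from rfl, pow_add, hD, dmap_nil _ g f hN4, zero_mul, add_zero, map_one])
  have h4 : ¬ E ^ 4 = 1 := fun h => by
    have := congrArg (toEnd _) h
    rw [map_pow, map_one, hE, toEnd_extend, ← hD, show (4 : ℕ) = 2 ^ 2 from rfl, unip_pow, add_eq_left] at this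
    have h' := LinearMap.congr_fun this (((0 : F), (1 : F)), 0)
    rw [show (2 : ℕ) ^ 2 = 2 + 2 from rfl, hD, dmap_at] at h'
    exact h3 (congrArg Prod.snd h')
  exact ⟨_, Rep.of (isType_Qh _ ht) (wit_linear E (orderOf_eq_prime_pow (p := 2) (n := 2) h4 h8).symm.dvd)⟩

end Unipotent

end CfsgLib.SpecSp8
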