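import Cfsg.Agent.Lib.SpecSp8.Annih
import Cfsg.Agent.Lib.SpecSp8.Pieces
import Cfsg.Agent.Lib.SympInvolution.OrthForm

/-!
`Sp₈(q)`, `q` even, has the spectrum of the orthogonal group of minus type, and of the semidirect products of
`Ω₈⁻(q)` with sums of copies of its natural module.
-/

set_option autoImplicit false
set_option linter.unusedSectionVars false
set_option linter.style.haveILetI false

namespace CfsgLib.SpecSp8

open QuadraticMap Module CfsgLib.WittExtension CfsgLib.FiniteForms CfsgLib.SpinorNorm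

universe u

variable {F : Type u} [Field F] [Fintype F] [CharP F 2]

/-! ### The list of witnesses -/

theorem coprime_pm {a : ℕ} (ha : 1 ≤ a) :
    Nat.Coprime (Fintype.card F ^ a + 1) (Fintype.card F ^ a - 1) := by
  have h2 : 2 ≤ Fintype.card F ^ a := le_trans Fintype.one_lt_card (Nat.le_self_pow (by omega) _)
  have hev : Even (Fintype.card F ^ a) := (q_even (F := F)).pow_of_ne_zero (by omega)
  rw [show Fintype.card F ^ a + 1 = 2 + (Fintype.card F ^ a - 1) by omega, Nat.coprime_add_self_left]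
  exact Nat.coprime_two_left.mpr (Nat.Even.sub_odd (by omega) hev odd_one)

theorem odd_pm (a : ℕ) (ha : 1 ≤ a) : Odd (Fintype.card F ^ a + 1) ∧ Odd (Fintype.card F ^ a - 1) := by
  have h2 : 2 ≤ Fintype.card F ^ a := le_trans Fintype.one_lt_card (Nat.le_self_pow (by omega) _)
  have hev : Even (Fintype.card F ^ a) := (q_even (F := F)).pow_of_ne_zero (by omega)
  exact ⟨hev.add_one, Nat.Even.sub_odd (by omega) hev odd_one⟩

theorem lcm_two_pow {k : ℕ} {n : ℕ} (hn : Odd n) : Nat.lcm (2 ^ k) n = 2 ^ k * n :=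
  ((Nat.coprime_two_left.mpr hn).pow_left k).lcm_eq_mul

/-- Every target occurs, in a space of minus type. -/
theorem witness (aff : Prop) (S : ℤˣ → Prop) (hS1 : S 1) (hSm : ∀ s t, S s → S t → S (s * t))
    (b1 : ∀ ε, ∃ s, S s ∧ Rep F aff ε 1 2 s) (b2 : ∀ ε, ∃ s, S s ∧ Rep F aff ε 2 4 s)
    (b3 : ∀ ε, ∃ s, S s ∧ Rep F aff ε 3 8 s) :
    ∀ vM ∈ targets (Fintype.card F), ∃ s, S s ∧ Rep F aff false 4 (2 ^ vM.1 * vM.2) s := by
  have tp : ∀ d, 1 ≤ d → Rep F aff true d (Fintype.card F ^ d - 1) 1 := fun d hd =>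
    (torus_plus d hd).mono False.elim
  have tm : ∀ d, 1 ≤ d → Rep F aff false d (Fintype.card F ^ d + 1) 1 := fun d hd =>
    (torus_minus d hd).mono False.elim
  set q := Fintype.card F with hq
  have hs1 : ∀ {s : ℤˣ}, S s → S (1 * s) ∧ S (s * 1) := fun h => ⟨hSm _ _ hS1 h, hSm _ _ h hS1⟩
  intro vM hvM
  simp only [targets, List.mem_cons, List.not_mem_nil, or_false] at hvM
  rcases hvM with rfl | rfl | rfl | rfl | rfl | rfl | rfl | rfl | rfl | rfl | rfl | rfl
  · exact ⟨1, hS1, by simpa using tm 4 (by norm_num)⟩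
  · refine ⟨1 * 1, hSm _ _ hS1 hS1, ?_⟩
    have h := (tp 2 (by norm_num)).prod (tm 2 (by norm_num))
    have he : q ^ 4 - 1 = Nat.lcm (q ^ 2 - 1) (q ^ 2 + 1) := by
      rw [(coprime_pm (F := F) (a := 2) (by norm_num)).symm.lcm_eq_mul, mul_comm,
        show q ^ 4 = (q ^ 2) ^ 2 by ring]
      simpa using Nat.sq_sub_sq (q ^ 2) 1
    simp only [pow_zero, one_mul]
    rw [he]
    simpa using h
  · refine ⟨1 * 1, hSm _ _ hS1 hS1, ?_⟩
    have h := (tp 1 le_rfl).prod (tm 3 (by norm_num))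
    have hc : Nat.Coprime (q ^ 3 + 1) (q - 1) :=
      (coprime_pm (F := F) (a := 3) (by norm_num)).coprime_dvd_right (cube_dvd q).1
    rw [pow_one, hc.symm.lcm_eq_mul, mul_comm] at h
    simpa using h
  · refine ⟨1 * 1, hSm _ _ hS1 hS1, ?_⟩
    have h := (tp 3 (by norm_num)).prod (tm 1 le_rfl)
    have hc : Nat.Coprime (q ^ 3 - 1) (q + 1) :=
      (coprime_pm (F := F) (a := 3) (by norm_num)).symm.coprime_dvd_right (cube_dvd q).2
    rw [pow_one, hc.lcm_eq_mul] at h
    simpa using h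
  · obtain ⟨s, hs, hb⟩ := b1 true
    refine ⟨_, (hs1 hs).2, ?_⟩
    have h := hb.prod (tm 3 (by norm_num))
    rw [show (2 : ℕ) = 2 ^ 1 from rfl, lcm_two_pow (odd_pm (F := F) 3 (by norm_num)).1] at h
    exact h
  · obtain ⟨s, hs, hb⟩ := b1 false
    refine ⟨_, (hs1 hs).1, ?_⟩
    have h := (tp 3 (by norm_num)).prod hb
    rw [Nat.lcm_comm, show (2 : ℕ) = 2 ^ 1 from rfl, lcm_two_pow (odd_pm (F := F) 3 (by norm_num)).2] at h
    exact h
  · obtain ⟨s, hs, hb⟩ := b1 false
    refine ⟨_, hSm _ _ ((hs1 hs).1) hS1, ?_⟩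
    have h := ((tm 1 le_rfl).prod_binary hb).prod (tm 2 (by norm_num))
    have hc : Nat.Coprime (2 * (q ^ 1 + 1)) (q ^ 2 + 1) :=
      Nat.Coprime.mul_left (Nat.coprime_two_left.mpr (odd_pm (F := F) 2 (by norm_num)).1)
        (((coprime_pm (F := F) (a := 2) (by norm_num)).coprime_dvd_right (by
          rw [pow_one]; exact (sq_dvd q).2)).symm)
    rw [Nat.lcm_comm (q ^ 1 + 1), show Nat.lcm 2 (q ^ 1 + 1) = 2 * (q ^ 1 + 1) from
      lcm_two_pow (k := 1) (odd_pm (F := F) 1 le_rfl).1, hc.lcm_eq_mul, pow_one, mul_right_comm, mul_assoc] at h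
    simpa using h
  · obtain ⟨s, hs, hb⟩ := b1 true
    refine ⟨_, hSm _ _ ((hs1 hs).1) hS1, ?_⟩
    have h := ((tp 1 le_rfl).prod_binary hb).prod (tm 2 (by norm_num))
    have hc : Nat.Coprime (2 * (q ^ 1 - 1)) (q ^ 2 + 1) :=
      Nat.Coprime.mul_left (Nat.coprime_two_left.mpr (odd_pm (F := F) 2 (by norm_num)).1)
        (((coprime_pm (F := F) (a := 2) (by norm_num)).coprime_dvd_right (by
          rw [pow_one]; exact (sq_dvd q).1)).symm)
    rw [Nat.lcm_comm (q ^ 1 - 1), show Nat.lcm 2 (q ^ 1 - 1) = 2 * (q ^ 1 - 1) from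
      lcm_two_pow (k := 1) (odd_pm (F := F) 1 le_rfl).2, hc.lcm_eq_mul, pow_one, mul_right_comm, mul_assoc] at h
    simpa using h
  · obtain ⟨s, hs, hb⟩ := b2 true
    refine ⟨_, (hs1 hs).2, ?_⟩
    have h := hb.prod (tm 2 (by norm_num))
    rw [show (4 : ℕ) = 2 ^ 2 from rfl, lcm_two_pow (odd_pm (F := F) 2 (by norm_num)).1] at h
    exact h
  · obtain ⟨s, hs, hb⟩ := b2 false
    refine ⟨_, (hs1 hs).1, ?_⟩
    have h := (tp 2 (by norm_num)).prod hb
    rw [Nat.lcm_comm, show (4 : ℕ) = 2 ^ 2 from rfl, lcm_two_pow (odd_pm (F := F) 2 (by norm_num)).2] at h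
    exact h
  · obtain ⟨s, hs, hb⟩ := b3 true
    refine ⟨_, (hs1 hs).2, ?_⟩
    have h := hb.prod (tm 1 le_rfl)
    rw [show (8 : ℕ) = 2 ^ 3 from rfl, lcm_two_pow (odd_pm (F := F) 1 le_rfl).1, pow_one] at h
    exact h
  · obtain ⟨s, hs, hb⟩ := b3 false
    refine ⟨_, (hs1 hs).1, ?_⟩
    have h := (tp 1 le_rfl).prod hb
    rw [Nat.lcm_comm, show (8 : ℕ) = 2 ^ 3 from rfl, lcm_two_pow (odd_pm (F := F) 1 le_rfl).2, pow_one] at h
    exact h

/-- Witnesses inside the isometry group. -/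
theorem witness_linear : ∀ vM ∈ targets (Fintype.card F), ∃ s, Rep F False false 4 (2 ^ vM.1 * vM.2) s := by
  intro vM hvM
  obtain ⟨s, -, h⟩ := witness (F := F) False (fun _ => True) trivial (fun _ _ _ _ => trivial)
    (fun ε => ⟨_, trivial, refl_rep ε⟩) (fun ε => ⟨_, trivial, (four_rep ε).1⟩)
    (fun ε => (eight_rep ε).imp fun _ h => ⟨trivial, h⟩) vM hvM
  exact ⟨s, h⟩

/-- Witnesses in the affine group over the subgroup of Dickson invariant one. -/
theorem witness_affine : ∀ vM ∈ targets (Fintype.card F), Rep F True false 4 (2 ^ vM.1 * vM.2) 1 := by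
  intro vM hvM
  obtain ⟨s, rfl, h⟩ := witness (F := F) True (· = 1) rfl (fun s t hs ht => by rw [hs, ht, mul_one])
    (fun ε => ⟨1, rfl, trans_rep ε⟩) (fun ε => ⟨1, rfl, (four_rep ε).2.2⟩)
    (fun ε => ⟨1, rfl, by
      have h := (four_rep (F := F) true).2.1.prod ((refl_rep (F := F) ε).mono False.elim)
      rwa [show Nat.lcm 8 2 = 8 by decide, show ((-1 : ℤˣ) * -1) = 1 by decide] at h⟩) vM hvM
  exact h

/-! ### The standard minus form -/

theorem isType_Qm (k : ℕ) {a b : F}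
    (hab : ∀ z₁ z₂ : F, z₁ ^ 2 + a * z₁ * z₂ + b * z₂ ^ 2 = 0 → z₁ = 0 ∧ z₂ = 0) :
    IsType false (CfsgLib.StdQuadForms.Qm k a b) (k + 1) := by
  classical
  have ha : a ≠ 0 := CfsgLib.OrthOrder.bin_a_ne_zero hab two_zero
  have hp : ∀ u v, polar (CfsgLib.StdQuadForms.Qm k a b) u v =
      ∑ i, (u (.inl (.inl i)) * v (.inl (.inr i)) + v (.inl (.inl i)) * u (.inl (.inr i))) +
        a * (u (.inr 0) * v (.inr 1) + v (.inr 0) * u (.inr 1)) := fun u v => by
    simp only [polar, CfsgLib.StdQuadForms.Qm_apply, Cfsg.quadFormMinus, Pi.add_apply, add_mul, mul_add,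
      Finset.sum_add_distrib]
    linear_combination (u (.inr 0) * v (.inr 0) + b * u (.inr 1) * v (.inr 1)) * (two_zero : (2 : F) = 0)
  refine ⟨fun x hx => (CfsgLib.StdQuadForms.Qm_nondeg k hab).1 x hx, by simp; ring, k, rfl,
    fun i => Pi.single (.inl (.inl i)) 1, fun i => Pi.single (.inl (.inr i)) 1,
    Pi.single (.inr 0) 1, a⁻¹ • Pi.single (.inr 1) 1, ⟨?_, ?_, ?_, ?_, ?_⟩, ?_, ?_, ?_, ?_, ?_⟩
  · intro i; simp [CfsgLib.StdQuadForms.Qm_apply, Cfsg.quadFormMinus, Pi.single_apply]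
  · intro i; simp [CfsgLib.StdQuadForms.Qm_apply, Cfsg.quadFormMinus, Pi.single_apply]
  · intro i j; simp [hp, Pi.single_apply, eq_comm]
  · intro i j; simp [hp, Pi.single_apply]
  · intro i j; simp [hp, Pi.single_apply]
  · exact mem_famPerp.mpr ⟨fun i => by simp [hp, Pi.single_apply], fun i => by simp [hp, Pi.single_apply]⟩
  · exact mem_famPerp.mpr ⟨fun i => by simp [hp, Pi.single_apply], fun i => by simp [hp, Pi.single_apply]⟩
  · simp [CfsgLib.StdQuadForms.Qm_apply, Cfsg.quadFormMinus, Pi.single_apply]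
  · simp [hp, Pi.single_apply, ha]
  · intro t ht
    refine one_ne_zero (hab (t * a) 1 ?_).2
    simp [CfsgLib.StdQuadForms.Qm_apply, Cfsg.quadFormMinus, Pi.single_apply] at ht
    field_simp at ht
    linear_combination ht

/-- The coordinate map of the hub. -/
def hubIdx : (Fin 3 ⊕ Fin 3) ⊕ Fin 2 → Fin 4 ⊕ Fin 4 :=
  Sum.elim (Sum.map Fin.castSucc Fin.castSucc) ![Sum.inl 3, Sum.inr 3]

theorem hubIdx_bijective : Function.Bijective hubIdx := by
  rw [Fintype.bijective_iff_injective_and_card]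
  refine ⟨?_, by simp⟩
  unfold Function.Injective hubIdx
  decide

/-- The hub: a minus form on `F⁸` whose polar form is the symplectic form. -/
def hub (c : F) : QuadraticForm F (Fin 4 ⊕ Fin 4 → F) :=
  (CfsgLib.StdQuadForms.Qm 3 1 c).comp (LinearMap.funLeft F F hubIdx)

theorem hub_polar (c : F) : CfsgLib.SympOrth.Polar (hub c) := by
  intro x y
  simp [polar, hub, CfsgLib.StdQuadForms.Qm_apply, Cfsg.quadFormMinus, LinearMap.funLeft_apply, hubIdx,
    Fin.sum_univ_three, CfsgLib.SympGen.B, Matrix.J, Matrix.fromBlocks_mulVec, Matrix.neg_mulVec, dotProduct,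
    Fintype.sum_sum_type, Fin.sum_univ_four]
  linear_combination (x (.inl 0) * y (.inr 0) + x (.inl 1) * y (.inr 1) + x (.inl 2) * y (.inr 2) +
    x (.inl 3) * y (.inr 3) + x (.inl 3) * y (.inl 3) + c * x (.inr 3) * y (.inr 3)) * (two_zero : (2 : F) = 0)

theorem isType_hub {c : F} (hc : ∀ t : F, t ^ 2 + t + c ≠ 0) : IsType false (hub c) 4 :=
  (isType_Qm 3 (anisotropic_of_no_root hc)).map
    (LinearEquiv.funCongrLeft F F (Equiv.ofBijective _ hubIdx_bijective)).symm
    fun v => by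
      show CfsgLib.StdQuadForms.Qm 3 1 c _ = _
      congr 1
      exact LinearEquiv.apply_symm_apply (LinearEquiv.funCongrLeft F F (Equiv.ofBijective _ hubIdx_bijective)) v

theorem exists_hub : ∃ c : F, ∀ t : F, t ^ 2 + t + c ≠ 0 := by
  obtain ⟨c, hc⟩ := CfsgLib.SympOrth.exists_not_P2 (F := F)
  exact ⟨c, fun t ht => hc ⟨t, CharTwo.add_eq_zero.mp ht⟩⟩

theorem hub_witness {c : F} (hc : ∀ t : F, t ^ 2 + t + c ≠ 0) {aff : Prop} {N : ℕ} {s : ℤˣ}
    (h : Rep F aff false 4 N s) : Wit aff (hub c) N s := by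
  obtain ⟨Q, ht, hw⟩ := h
  obtain ⟨e, he⟩ := minus_isometric ht (isType_hub hc)
  exact hw.map e he

/-! ### Element orders -/

/-- The isometry group of the hub inside the symplectic group. -/
noncomputable def hubToSp (c : F) : quadIso (hub c) →* Matrix.symplecticGroup (Fin 4) F :=
  (CfsgLib.SympOrth.toSp (hub_polar c)).comp (CfsgLib.SpinorMatrix.isoEquiv (hub c)).symm.toMonoidHom

theorem hubToSp_injective (c : F) : Function.Injective (hubToSp c) :=
  (CfsgLib.SympOrth.toSp_injective (hub_polar c)).comp (CfsgLib.SpinorMatrix.isoEquiv (hub c)).symm.injective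

theorem hub_kill (c : F) (g : quadIso (hub c)) :
    ∃ vM ∈ targets (Fintype.card F), g ^ (2 ^ vM.1 * vM.2) = 1 ∧
      (Even (finrank F (fixSpace (hub c) g)) → ∀ v, geo g (2 ^ vM.1 * vM.2) v = 0) := by
  obtain ⟨vM, hvM, h1, h2⟩ := kill_target (hubToSp c g)
  refine ⟨vM, hvM, hubToSp_injective c (by rw [map_pow, h1, map_one]), fun hev v => ?_⟩
  have happ : ∀ (h : quadIso (hub c)) (x : Fin 4 ⊕ Fin 4 → F), Matrix.toLin' (hubToSp c h).1 x = h.1 x :=
    fun h x => CfsgLib.SpinorMatrix.isoEquiv_symm_apply (hub c) h x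
  have hfix : LinearMap.ker (Matrix.toLin' (hubToSp c g).1 - 1) = fixSpace (hub c) g := by
    ext x
    rw [LinearMap.mem_ker, LinearMap.sub_apply, Module.End.one_apply, sub_eq_zero, happ, mem_fix]
  have h3 := h2 (by rw [hfix]; intro h; rw [h] at hev; exact absurd hev (by decide))
  have h4 := congrArg (fun A => Matrix.toLin' A v) h3
  simp only [map_sum, LinearMap.sum_apply, map_zero, LinearMap.zero_apply] at h4
  rw [← h4, geo]
  exact Finset.sum_congr rfl fun i _ => by rw [← happ, map_pow, SubmonoidClass.coe_pow]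

theorem range_of_bounds {G : Type*} [Group G] [Finite G] (T : List (ℕ × ℕ))
    (hup : ∀ g : G, ∃ vM ∈ T, g ^ (2 ^ vM.1 * vM.2) = 1)
    (hdown : ∀ vM ∈ T, ∃ g : G, 2 ^ vM.1 * vM.2 ∣ orderOf g) :
    Set.range (orderOf : G → ℕ) = {n | ∃ vM ∈ T, n ∣ 2 ^ vM.1 * vM.2} := by
  ext n
  constructor
  · rintro ⟨g, rfl⟩
    obtain ⟨vM, h, h'⟩ := hup g
    exact ⟨vM, h, orderOf_dvd_of_pow_eq_one h'⟩
  · rintro ⟨vM, h, hn⟩
    obtain ⟨g, hg⟩ := hdown vM h
    exact ⟨g ^ (orderOf g / n), orderOf_pow_orderOf_div (orderOf_pos g).ne' (hn.trans hg)⟩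

/-- The spectrum of `PSp₈(q)`. -/
theorem psp_orders : Set.range (orderOf : Cfsg.PSp 4 F → ℕ) =
    {n | ∃ vM ∈ targets (Fintype.card F), n ∣ 2 ^ vM.1 * vM.2} := by
  have hmk := CfsgLib.PSpGraph.mk_injective (F := F) (n := 4) 2 rfl (by norm_num)
  have hS : Set.range (orderOf : Cfsg.PSp 4 F → ℕ) =
      Set.range (orderOf : Matrix.symplecticGroup (Fin 4) F → ℕ) := by
    ext n
    constructor
    · rintro ⟨x, rfl⟩
      obtain ⟨g, rfl⟩ := QuotientGroup.mk'_surjective _ x
      exact ⟨g, (orderOf_injective _ hmk g).symm⟩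
    · rintro ⟨g, rfl⟩
      exact ⟨QuotientGroup.mk' _ g, orderOf_injective _ hmk g⟩
  rw [hS]
  obtain ⟨c, hc⟩ := exists_hub (F := F)
  refine range_of_bounds _ (fun g => ?_) fun vM hvM => ?_
  · obtain ⟨vM, h, h1, -⟩ := kill_target g
    exact ⟨vM, h, h1⟩
  · obtain ⟨s, hs⟩ := witness_linear vM hvM
    obtain ⟨g, v, -, hv, hN⟩ := hub_witness hc hs
    refine ⟨hubToSp c g, ?_⟩
    rw [orderOf_injective _ (hubToSp_injective c)]
    refine hN _ (pow_orderOf_eq_one g) ?_
    simp [geo, hv id]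

/-- The orthogonal group of minus type has the spectrum of `PSp₈(q)`. -/
theorem minus_orders {a b : F}
    (hab : ∀ z₁ z₂ : F, z₁ ^ 2 + a * z₁ * z₂ + b * z₂ ^ 2 = 0 → z₁ = 0 ∧ z₂ = 0) :
    Set.range (orderOf : Cfsg.PSp 4 F → ℕ) =
      Set.range (orderOf : ↥(Cfsg.isometryGroup F (Cfsg.quadFormMinus 3 F a b)) → ℕ) := by
  obtain ⟨c, hc⟩ := exists_hub (F := F)
  obtain ⟨e, he⟩ := minus_isometric (isType_Qm 3 hab) (isType_hub hc)
  have hfun : ⇑(CfsgLib.StdQuadForms.Qm 3 a b) = Cfsg.quadFormMinus 3 F a b :=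
    funext (CfsgLib.StdQuadForms.Qm_apply 3 a b)
  rw [psp_orders, ← hfun]
  let φ : Cfsg.isometryGroup F ⇑(CfsgLib.StdQuadForms.Qm 3 a b) →* quadIso (hub c) :=
    (conjIso e he).comp (CfsgLib.SpinorMatrix.isoEquiv _).toMonoidHom
  have hφ : Function.Injective φ := (conjIso_injective e he).comp (MulEquiv.injective _)
  refine (range_of_bounds _ (fun g => ?_) fun vM hvM => ?_).symm
  · obtain ⟨vM, h, h1, -⟩ := hub_kill c (φ g)
    exact ⟨vM, h, hφ (by rw [map_pow, h1, map_one])⟩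
  · obtain ⟨s, hs⟩ := witness_linear vM hvM
    obtain ⟨g, v, -, hv, hN⟩ :=
      (hub_witness hc hs).map e.symm fun v => by rw [← he, e.apply_symm_apply]
    refine ⟨(CfsgLib.SpinorMatrix.isoEquiv _).symm g, ?_⟩
    rw [MulEquiv.orderOf_eq]
    refine hN _ (pow_orderOf_eq_one g) ?_
    simp [geo, hv id]

/-! ### The semidirect products -/

section Semidirect

variable (c : F) (M : ℕ)

/-- A subgroup of isometries acting on a power of the natural module. -/
def actM (Ω : Subgroup (quadIso (hub c))) :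
    Ω →* MulAut (Multiplicative (Fin (M + 1) → Fin 4 ⊕ Fin 4 → F)) where
  toFun g :=
    { toFun := fun w => Multiplicative.ofAdd fun j => g.1.1 (Multiplicative.toAdd w j)
      invFun := fun w => Multiplicative.ofAdd fun j => g.1.1.symm (Multiplicative.toAdd w j)
      left_inv := fun w => by simp
      right_inv := fun w => by simp
      map_mul' := fun w w' => Multiplicative.toAdd.injective (funext fun j => map_add g.1.1 _ _) }
  map_one' := MulEquiv.ext fun _ => rfl
  map_mul' _ _ := MulEquiv.ext fun _ => rfl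

theorem semi_pow (Ω : Subgroup (quadIso (hub c)))
    (x : Multiplicative (Fin (M + 1) → Fin 4 ⊕ Fin 4 → F) ⋊[actM c M Ω] Ω) (n : ℕ) :
    (∀ j, Multiplicative.toAdd (x ^ n).left j = geo x.right.1 n (Multiplicative.toAdd x.left j)) ∧
      (x ^ n).right = x.right ^ n := by
  induction n with
  | zero => exact ⟨fun j => by simp [geo], by simp⟩
  | succ n ih =>
    refine ⟨fun j => ?_, by rw [pow_succ', SemidirectProduct.mul_right, ih.2, pow_succ']⟩
    rw [pow_succ', SemidirectProduct.mul_left, toAdd_mul, Pi.add_apply]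
    show _ + x.right.1.1 (Multiplicative.toAdd (x ^ n).left j) = _
    rw [ih.1 j, geo, geo, Finset.sum_range_succ', map_sum, pow_zero, add_comm]
    refine congrArg₂ (· + ·) (Finset.sum_congr rfl fun i _ => ?_) rfl
    rw [pow_succ']
    rfl

/-- Groups of unbounded order with the spectrum of `PSp₈(q)`. -/
theorem exists_isospectral :
    ∃ (H : Type) (_ : Group H) (_ : Fintype H),
      M < Fintype.card H ∧ Set.range (orderOf : H → ℕ) = Set.range (orderOf : Cfsg.PSp 4 F → ℕ) := by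
  classical
  obtain ⟨c, hc⟩ := exists_hub (F := F)
  have hnd : (polarBilin (hub c)).Nondegenerate := CfsgLib.SympOrth.nondeg (hub_polar c)
  have hrk : finrank F (Fin 4 ⊕ Fin 4 → F) = 8 := by simp
  have hcl := closure_refl (hub c) hnd (Or.inr (by omega))
  let Ω : Subgroup (quadIso (hub c)) := (dicksonHom (hub c) hnd hcl).ker
  haveI : Finite (quadIso (hub c)) :=
    Finite.of_injective _ (hubToSp_injective c)
  let H₀ := Multiplicative (Fin (M + 1) → Fin 4 ⊕ Fin 4 → F) ⋊[actM c M Ω] Ω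
  haveI : Finite H₀ := Finite.of_equiv _ SemidirectProduct.equivProd.symm
  haveI := Fintype.ofFinite H₀
  have hcard : M < Fintype.card H₀ := by
    rw [← Nat.card_eq_fintype_card, SemidirectProduct.card]
    have h1 : 2 ^ (M + 1) ≤ Nat.card (Multiplicative (Fin (M + 1) → Fin 4 ⊕ Fin 4 → F)) := by
      rw [Nat.card_congr Multiplicative.toAdd, Nat.card_fun, Nat.card_eq_fintype_card (α := Fin (M + 1)),
        Fintype.card_fin]
      exact Nat.pow_le_pow_left Finite.one_lt_card _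
    have h2 : 1 ≤ Nat.card Ω := Nat.card_pos
    calc M < 2 ^ M := Nat.lt_two_pow_self
      _ ≤ 2 ^ (M + 1) := Nat.pow_le_pow_right (by norm_num) (by omega)
      _ ≤ _ := h1.trans (Nat.le_mul_of_pos_right _ h2)
  have hH : Set.range (orderOf : H₀ → ℕ) = Set.range (orderOf : Cfsg.PSp 4 F → ℕ) := by
    rw [psp_orders]
    refine range_of_bounds _ (fun x => ?_) fun vM hvM => ?_
    · obtain ⟨vM, h, h1, h2⟩ := hub_kill c x.right.1
      have hev : Even (finrank F (fixSpace (hub c) x.right.1)) := by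
        have hd : dickson (hub c) x.right.1 = 1 := x.right.2
        rcases Nat.even_or_odd (finrank F (fixSpace (hub c) x.right.1)) with h' | h'
        · exact h'
        · rw [dickson, hrk, pow_add, h'.neg_one_pow] at hd
          exact absurd hd (by decide)
      refine ⟨vM, h, SemidirectProduct.ext (Multiplicative.toAdd.injective (funext fun j => ?_)) ?_⟩
      · rw [(semi_pow c M Ω x _).1, h2 hev]; rfl
      · rw [(semi_pow c M Ω x _).2]
        exact Subtype.ext (by rw [SubmonoidClass.coe_pow, h1]; rfl)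
    · obtain ⟨g, v, hs, -, hN⟩ := hub_witness hc (witness_affine vM hvM)
      refine ⟨⟨Multiplicative.ofAdd fun _ => v, ⟨g, hs⟩⟩, hN _ ?_ ?_⟩
      · have h := congrArg SemidirectProduct.right
          (pow_orderOf_eq_one (G := H₀) ⟨Multiplicative.ofAdd fun _ => v, ⟨g, hs⟩⟩)
        rw [(semi_pow c M Ω _ _).2] at h
        exact congrArg Subtype.val h
      · have h := congrArg (fun y : H₀ => Multiplicative.toAdd y.left 0)
          (pow_orderOf_eq_one (G := H₀) ⟨Multiplicative.ofAdd fun _ => v, ⟨g, hs⟩⟩)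
        simp only [(semi_pow c M Ω _ _).1] at h
        exact h
  refine ⟨Shrink.{0} H₀, inferInstance, Fintype.ofEquiv H₀ (equivShrink.{0} H₀),
    by rw [Fintype.ofEquiv_card]; exact hcard, ?_⟩
  rw [← hH]
  ext n
  constructor
  · rintro ⟨x, rfl⟩; exact ⟨Shrink.mulEquiv x, MulEquiv.orderOf_eq _ x⟩
  · rintro ⟨x, rfl⟩; exact ⟨Shrink.mulEquiv.symm x, MulEquiv.orderOf_eq _ x⟩

end Semidirect

end CfsgLib.SpecSp8
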