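import Mathlib

/-!
Multisets of eight roots closed under `t ↦ t ^ q` and inversion: the exponent of the corresponding element.
-/

set_option autoImplicit false

namespace CfsgLib.SpecSp8

/-- The maximal element orders of `Sp₈(q)`, `q` even, as a two-power and an odd part. -/
def targets (q : ℕ) : List (ℕ × ℕ) :=
  [(0, q ^ 4 + 1), (0, q ^ 4 - 1), (0, (q ^ 3 + 1) * (q - 1)), (0, (q ^ 3 - 1) * (q + 1)),
    (1, q ^ 3 + 1), (1, q ^ 3 - 1), (1, (q ^ 2 + 1) * (q + 1)), (1, (q ^ 2 + 1) * (q - 1)),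
    (2, q ^ 2 + 1), (2, q ^ 2 - 1), (3, q + 1), (3, q - 1)]

variable {Ω : Type*} [Field Ω] (q : ℕ)

/-- The orbit of `t` has at most `2d` members. -/
def P (d : ℕ) (t : Ω) : Prop := t ^ q ^ d = t ∨ t ^ q ^ d = t⁻¹

/-- The orbit of `t`. -/
def orb [DecidableEq Ω] (d : ℕ) (t : Ω) : Finset Ω :=
  (Finset.range d ×ˢ (Finset.univ : Finset Bool)).image
    fun p => bif p.2 then t ^ q ^ p.1 else (t ^ q ^ p.1)⁻¹

variable {q}

theorem root_kill {d : ℕ} {t : Ω} (hq : 0 < q) (ht : t ≠ 0) (h : P q d t) :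
    t ^ (q ^ d - 1) = 1 ∨ t ^ (q ^ d + 1) = 1 := by
  rcases h with h | h
  · left
    refine mul_right_cancel₀ ht ?_
    rw [← pow_succ, Nat.sub_add_cancel (Nat.one_le_pow _ _ hq), one_mul, h]
  · right
    rw [pow_succ, h, inv_mul_cancel₀ ht]

theorem pow_one_of_dvd {t : Ω} {m n : ℕ} (h : m ∣ n) (ht : t ^ m = 1) : t ^ n = 1 := by
  obtain ⟨k, rfl⟩ := h
  rw [pow_mul, ht, one_pow]

theorem sq_dvd (q : ℕ) : q - 1 ∣ q ^ 2 - 1 ∧ q + 1 ∣ q ^ 2 - 1 := by
  have h : q ^ 2 - 1 = (q + 1) * (q - 1) := by simpa using Nat.sq_sub_sq q 1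
  exact ⟨h ▸ dvd_mul_left _ _, h ▸ dvd_mul_right _ _⟩

theorem four_dvd (q : ℕ) : q ^ 2 - 1 ∣ q ^ 4 - 1 ∧ q ^ 2 + 1 ∣ q ^ 4 - 1 := by
  have h : q ^ 4 - 1 = (q ^ 2 + 1) * (q ^ 2 - 1) := by
    rw [show q ^ 4 = (q ^ 2) ^ 2 by ring]; simpa using Nat.sq_sub_sq (q ^ 2) 1
  exact ⟨h ▸ dvd_mul_left _ _, h ▸ dvd_mul_right _ _⟩

theorem cube_dvd (q : ℕ) : q - 1 ∣ q ^ 3 - 1 ∧ q + 1 ∣ q ^ 3 + 1 := by
  refine ⟨by simpa using Nat.sub_dvd_pow_sub_pow q 1 3, ?_⟩
  simpa using (show Odd 3 by decide).nat_add_dvd_pow_add_pow q 1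

variable [CharP Ω 2] [DecidableEq Ω]

theorem eq_one_of_inv {t : Ω} (ht : t ≠ 0) (h : t⁻¹ = t) : t = 1 := by
  have h2 : t * t = 1 := by nth_rewrite 1 [← h]; exact inv_mul_cancel₀ ht
  have h3 : (t - 1) * (t - 1) = 0 := by
    linear_combination h2 + (1 - t) * (CharTwo.two_eq_zero : (2 : Ω) = 0)
  exact sub_eq_zero.mp (mul_self_eq_zero.mp h3)

variable (R : Multiset Ω) (hcard : Multiset.card R = 8) (h0 : (0 : Ω) ∉ R)
  (hfr : ∀ t, R.count (t ^ q) = R.count t) (hinv : ∀ t : Ω, R.count t⁻¹ = R.count t)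
  (hinj : Function.Injective fun t : Ω => t ^ q)

include hfr in
theorem count_iter (i : ℕ) (t : Ω) : R.count (t ^ q ^ i) = R.count t := by
  induction i with
  | zero => rw [pow_zero, pow_one]
  | succ i ih => rw [pow_succ, pow_mul, hfr, ih]

include hinj in
theorem iter_inj (i : ℕ) : Function.Injective fun t : Ω => t ^ q ^ i := by
  induction i with
  | zero => intro a b h; simpa using h
  | succ i ih =>
    intro a b h
    simp only [pow_succ, pow_mul] at h
    exact ih (hinj h)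

include hinj in
theorem one_iff (i : ℕ) {t : Ω} : t ^ q ^ i = 1 ↔ t = 1 :=
  ⟨fun h => iter_inj hinj i (h.trans (one_pow _).symm), fun h => by rw [h, one_pow]⟩

include hfr hinv in
theorem count_orb {d : ℕ} {t u : Ω} (hu : u ∈ orb q d t) : R.count u = R.count t := by
  simp only [orb, Finset.mem_image, Finset.mem_product] at hu
  obtain ⟨⟨i, b⟩, -, rfl⟩ := hu
  cases b
  · simp only [cond_false]; rw [hinv, count_iter R hfr]
  · simp only [cond_true]; rw [count_iter R hfr]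

theorem mem_orb {d : ℕ} {t u : Ω} :
    u ∈ orb q d t ↔ ∃ i < d, u = t ^ q ^ i ∨ u = (t ^ q ^ i)⁻¹ := by
  simp only [orb, Finset.mem_image, Finset.mem_product, Finset.mem_range, Finset.mem_univ, and_true,
    Prod.exists, Bool.exists_bool, cond_false, cond_true]
  constructor
  · rintro ⟨i, ⟨hi, h⟩ | ⟨hi, h⟩⟩
    · exact ⟨i, hi, Or.inr h.symm⟩
    · exact ⟨i, hi, Or.inl h.symm⟩
  · rintro ⟨i, hi, h | h⟩
    · exact ⟨i, Or.inr ⟨hi, h.symm⟩⟩
    · exact ⟨i, Or.inl ⟨hi, h.symm⟩⟩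

theorem orb_kill {d m : ℕ} {t u : Ω} (h : t ^ m = 1) (hu : u ∈ orb q d t) : u ^ m = 1 := by
  obtain ⟨i, -, rfl | rfl⟩ := mem_orb.mp hu
  · rw [← pow_mul, mul_comm, pow_mul, h, one_pow]
  · rw [inv_pow, ← pow_mul, mul_comm, pow_mul, h, one_pow, inv_one]

include hinj in
theorem one_notMem_orb {d : ℕ} {t : Ω} (ht : t ≠ 1) : (1 : Ω) ∉ orb q d t := fun h => by
  obtain ⟨i, -, h | h⟩ := mem_orb.mp h
  · exact ht ((one_iff hinj i).mp h.symm)
  · exact ht ((one_iff hinj i).mp (inv_eq_one.mp h.symm))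

include hinj in
theorem card_orb {d : ℕ} {t : Ω} (ht0 : t ≠ 0) (ht : t ≠ 1) (hP : ∀ k, 1 ≤ k → k < d → ¬ P q k t) :
    (orb q d t).card = 2 * d := by
  have key : ∀ i j, i < j → j < d → t ^ q ^ i ≠ t ^ q ^ j ∧ t ^ q ^ i ≠ (t ^ q ^ j)⁻¹ := by
    intro i j hij hj
    have e : t ^ q ^ j = (t ^ q ^ (j - i)) ^ q ^ i := by
      rw [← pow_mul, ← pow_add]; congr 2; omega
    constructor <;> intro h <;> rw [e] at h
    · exact hP (j - i) (by omega) (by omega) (Or.inl (iter_inj hinj i h).symm)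
    · rw [← inv_pow] at h
      exact hP (j - i) (by omega) (by omega) (Or.inr (inv_eq_iff_eq_inv.mp (iter_inj hinj i h).symm))
  have hne : ∀ i, t ^ q ^ i ≠ (t ^ q ^ i)⁻¹ := fun i h =>
    ht ((one_iff hinj i).mp (eq_one_of_inv (pow_ne_zero _ ht0) h.symm))
  rw [orb, Finset.card_image_of_injOn, Finset.card_product, Finset.card_range, Finset.card_univ,
    Fintype.card_bool, mul_comm]
  rintro ⟨i, a⟩ hi ⟨j, b⟩ hj h
  simp only [Finset.coe_product, Set.mem_prod, Finset.coe_range, Set.mem_Iio] at hi hj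
  rcases lt_trichotomy i j with hij | hij | hij
  · have := key i j hij hj.1
    cases a <;> cases b <;> simp only [cond_false, cond_true] at h
    · exact absurd (inv_injective h) this.1
    · exact absurd (by rw [← h, inv_inv]) this.2
    · exact absurd h this.2
    · exact absurd h this.1
  · subst hij
    cases a <;> cases b <;> simp only [cond_false, cond_true] at h
    · rfl
    · exact absurd h.symm (hne i)
    · exact absurd h (hne i)
    · rfl
  · have := key j i hij hi.1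
    cases a <;> cases b <;> simp only [cond_false, cond_true] at h
    · exact absurd (inv_injective h).symm this.1
    · exact absurd h.symm this.2
    · exact absurd (by rw [h, inv_inv]) this.2
    · exact absurd h.symm this.1

include hinj in
theorem P_orb {d k : ℕ} {t u : Ω} (hu : u ∈ orb q d t) : P q k u ↔ P q k t := by
  have h1 : ∀ (i : ℕ) (x : Ω), P q k (x ^ q ^ i) ↔ P q k x := fun i x => by
    simp only [P]
    rw [← inv_pow, ← pow_mul, show q ^ i * q ^ k = q ^ k * q ^ i from mul_comm _ _, pow_mul]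
    exact or_congr (iter_inj hinj i).eq_iff (iter_inj hinj i).eq_iff
  obtain ⟨i, -, rfl | rfl⟩ := mem_orb.mp hu
  · exact h1 i t
  · refine Iff.trans ?_ (h1 i t)
    simp only [P, inv_pow, inv_inj]

theorem self_mem_orb {d : ℕ} (hd : 1 ≤ d) (t : Ω) : t ∈ orb q d t :=
  mem_orb.mpr ⟨0, hd, Or.inl (by rw [pow_zero, pow_one])⟩

theorem inv_mem_orb {d : ℕ} {t u : Ω} (h : u ∈ orb q d t) : u⁻¹ ∈ orb q d t := by
  obtain ⟨i, hi, h | h⟩ := mem_orb.mp h
  · exact mem_orb.mpr ⟨i, hi, Or.inr (by rw [h])⟩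
  · exact mem_orb.mpr ⟨i, hi, Or.inl (by rw [h, inv_inv])⟩

theorem step_mem_orb {d : ℕ} {t u : Ω} (hP : P q d t) (h : u ∈ orb q d t) : u ^ q ∈ orb q d t := by
  have h1 : ∀ i < d, t ^ q ^ (i + 1) ∈ orb q d t := by
    intro i hi
    rcases Nat.lt_or_ge (i + 1) d with h' | h'
    · exact mem_orb.mpr ⟨i + 1, h', Or.inl rfl⟩
    · rw [show i + 1 = d by omega]
      rcases hP with h'' | h'' <;> rw [h'']
      · exact self_mem_orb (by omega) t
      · exact inv_mem_orb (self_mem_orb (by omega) t)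
  obtain ⟨i, hi, rfl | rfl⟩ := mem_orb.mp h
  · rw [← pow_mul, ← pow_succ]; exact h1 i hi
  · rw [inv_pow, ← pow_mul, ← pow_succ]; exact inv_mem_orb (h1 i hi)

/-- Two orbits that meet: the second is inside the first. -/
theorem orb_subset {d d' : ℕ} {t s : Ω} (hP : P q d t) (hs : s ∈ orb q d t) : orb q d' s ⊆ orb q d t := by
  have h : ∀ i, s ^ q ^ i ∈ orb q d t := by
    intro i
    induction i with
    | zero => rwa [pow_zero, pow_one]
    | succ i ih => rw [pow_succ, pow_mul]; exact step_mem_orb hP ih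
  intro u hu
  obtain ⟨i, -, rfl | rfl⟩ := mem_orb.mp hu
  · exact h i
  · exact inv_mem_orb (h i)

theorem mass (U : Finset Ω) : ∑ u ∈ U, R.count u ≤ Multiset.card R := by
  calc ∑ u ∈ U, R.count u ≤ ∑ u ∈ U ∪ R.toFinset, R.count u :=
        Finset.sum_le_sum_of_subset Finset.subset_union_left
    _ = Multiset.card R := Multiset.sum_count_eq_card fun a ha =>
        Finset.mem_union_right _ (Multiset.mem_toFinset.mpr ha)

theorem all_mem (U : Finset Ω) (h : Multiset.card R ≤ ∑ u ∈ U, R.count u) {s : Ω} (hs : s ∈ R) : s ∈ U := by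
  by_contra hn
  have h1 := mass R (insert s U)
  rw [Finset.sum_insert hn] at h1
  have := Multiset.one_le_count_iff_mem.mpr hs
  omega

/-- The degree of a root. -/
def Deg (q : ℕ) (t : Ω) (d : ℕ) : Prop := 1 ≤ d ∧ P q d t ∧ ∀ k, 1 ≤ k → k < d → ¬ P q k t

theorem Deg.unique {t : Ω} {d d' : ℕ} (h : Deg q t d) (h' : Deg q t d') : d = d' := by
  rcases lt_trichotomy d d' with hlt | hlt | hlt
  · exact absurd h.2.1 (h'.2.2 d h.1 hlt)
  · exact hlt
  · exact absurd h'.2.1 (h.2.2 d' h'.1 hlt)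

include hfr hinv hinj h0 in
theorem sum_orb {t : Ω} {d : ℕ} (htR : t ∈ R) (ht : t ≠ 1) (h : ∀ k, 1 ≤ k → k < d → ¬ P q k t) :
    ∑ u ∈ orb q d t, R.count u = 2 * d * R.count t := by
  rw [Finset.sum_congr rfl fun u hu => count_orb R hfr hinv hu, Finset.sum_const, smul_eq_mul,
    card_orb hinj (fun e => h0 (by rwa [← e])) ht h]

include hcard h0 hfr hinv hinj in
theorem exists_deg {t : Ω} (htR : t ∈ R) (ht : t ≠ 1) :
    ∃ d, Deg q t d ∧ d ≤ 4 ∧ 2 * d * R.count t ≤ 8 := by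
  classical
  have hex : ∃ d, 1 ≤ d ∧ d ≤ 4 ∧ P q d t := by
    by_contra hn
    push Not at hn
    have h := mass R (orb q 5 t)
    rw [sum_orb R h0 hfr hinv hinj htR ht fun k h1 h2 => hn k h1 (by omega), hcard] at h
    have := Multiset.one_le_count_iff_mem.mpr htR
    omega
  obtain ⟨h1, h4, hP⟩ := Nat.find_spec hex
  have hmin : ∀ k, 1 ≤ k → k < Nat.find hex → ¬ P q k t := fun k hk hlt hPk =>
    Nat.find_min hex hlt ⟨hk, by omega, hPk⟩
  refine ⟨Nat.find hex, ⟨h1, hP, hmin⟩, h4, ?_⟩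
  have h := mass R (orb q (Nat.find hex) t)
  rwa [sum_orb R h0 hfr hinv hinj htR ht hmin, hcard] at h

include hcard h0 hfr hinv hinj in
/-- The mass of two orbits and the root one. -/
theorem mass_two {t s : Ω} {d e : ℕ} (htR : t ∈ R) (ht : t ≠ 1) (hd : Deg q t d) (hsR : s ∈ R) (hs : s ≠ 1)
    (he : Deg q s e) (hst : s ∉ orb q d t) :
    2 * d * R.count t + 2 * e * R.count s + R.count 1 ≤ 8 ∧
      (2 * d * R.count t + 2 * e * R.count s + R.count 1 = 8 →
        ∀ u ∈ R, u = 1 ∨ u ∈ orb q d t ∨ u ∈ orb q e s) := by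
  have hdisj : Disjoint (orb q d t) (orb q e s) := by
    rw [Finset.disjoint_left]
    intro u hu hu'
    have ht' : Deg q u d := ⟨hd.1, (P_orb hinj hu).mpr hd.2.1, fun k h1 h2 h => hd.2.2 k h1 h2 ((P_orb hinj hu).mp h)⟩
    have hs' : Deg q u e :=
      ⟨he.1, (P_orb hinj hu').mpr he.2.1, fun k h1 h2 h => he.2.2 k h1 h2 ((P_orb hinj hu').mp h)⟩
    have hde := ht'.unique hs'
    subst hde
    have hsub := orb_subset (d' := d) hd.2.1 hu
    have heq : orb q d u = orb q d s := Finset.eq_of_subset_of_card_le (orb_subset he.2.1 hu') (by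
      rw [card_orb hinj (fun e' => h0 (by rwa [← e'])) hs he.2.2,
        card_orb hinj (fun e' => h0 (by
          rw [← e', ← Multiset.one_le_count_iff_mem, count_orb R hfr hinv hu]
          exact Multiset.one_le_count_iff_mem.mpr htR)) (fun e' => one_notMem_orb hinj ht (by rwa [← e']))
          ht'.2.2])
    exact hst (hsub (heq ▸ self_mem_orb hd.1 s))
  have h1 : (1 : Ω) ∉ orb q d t ∪ orb q e s := by
    rw [Finset.mem_union, not_or]
    exact ⟨one_notMem_orb hinj ht, one_notMem_orb hinj hs⟩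
  have hsum : ∑ u ∈ insert 1 (orb q d t ∪ orb q e s), R.count u =
      2 * d * R.count t + 2 * e * R.count s + R.count 1 := by
    rw [Finset.sum_insert h1, Finset.sum_union hdisj, sum_orb R h0 hfr hinv hinj htR ht hd.2.2,
      sum_orb R h0 hfr hinv hinj hsR hs he.2.2]
    ring
  refine ⟨hsum ▸ hcard ▸ mass R _, fun h u hu => ?_⟩
  have := all_mem R _ (by rw [hsum, h, hcard]) hu
  simpa only [Finset.mem_insert, Finset.mem_union] using this

include hcard h0 hfr hinv hinj in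
theorem mass_one {t : Ω} {d : ℕ} (htR : t ∈ R) (ht : t ≠ 1) (hd : Deg q t d) :
    2 * d * R.count t + R.count 1 ≤ 8 := by
  have h := mass R (insert 1 (orb q d t))
  rwa [Finset.sum_insert (one_notMem_orb hinj ht), sum_orb R h0 hfr hinv hinj htR ht hd.2.2, hcard,
    add_comm] at h

include hcard h0 hfr hinv hinj in
theorem count_le_four {t : Ω} (htR : t ∈ R) (ht : t ≠ 1) : R.count t ≤ 4 := by
  obtain ⟨d, hd, -, hle⟩ := exists_deg R hcard h0 hfr hinv hinj htR ht
  have := hd.1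
  nlinarith

include hcard h0 hfr hinv hinj in
/-- Every multiset of eight roots fits one of the targets. -/
theorem target_of_roots (hq : 0 < q) :
    ∃ vM ∈ targets q, ∀ t ∈ R, t ^ vM.2 = 1 ∧ R.count t ≤ 2 ^ vM.1 := by
  classical
  have hne : ∀ t ∈ R, t ≠ 0 := fun t ht e => h0 (e ▸ ht)
  have hdeg := fun (t : Ω) (h : t ∈ R) (h1 : t ≠ 1) => exists_deg R hcard h0 hfr hinv hinj h h1
  have hkill : ∀ {t : Ω} {d : ℕ}, t ∈ R → Deg q t d → t ^ (q ^ d - 1) = 1 ∨ t ^ (q ^ d + 1) = 1 :=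
    fun htR hd => root_kill hq (hne _ htR) hd.2.1
  have hcnt : ∀ {d : ℕ} {t u : Ω}, u ∈ orb q d t → R.count u = R.count t :=
    fun hu => count_orb R hfr hinv hu
  have hmem1 : ∀ {d : ℕ} {t u : Ω}, t ∈ R → u ∈ orb q d t → u ∈ R := fun ht hu =>
    Multiset.one_le_count_iff_mem.mp (by rw [hcnt hu]; exact Multiset.one_le_count_iff_mem.mpr ht)
  have hq2 : ∀ t : Ω, (t ^ (q - 1) = 1 ∨ t ^ (q + 1) = 1) → t ^ (q ^ 2 - 1) = 1 := fun t h =>
    h.elim (pow_one_of_dvd (sq_dvd q).1) (pow_one_of_dvd (sq_dvd q).2)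
  have hk1 : ∀ {t : Ω}, t ∈ R → Deg q t 1 → t ^ (q - 1) = 1 ∨ t ^ (q + 1) = 1 := fun htR hd => by
    have := hkill htR hd
    rwa [pow_one] at this
  by_cases hall : ∀ t ∈ R, t ≠ 1 → ∀ d, Deg q t d → d = 1
  · -- all degrees are one
    by_cases h5 : R.count 1 ≤ 4
    · refine ⟨(2, q ^ 2 - 1), by simp [targets], fun t ht => ?_⟩
      by_cases h1 : t = 1
      · exact ⟨by rw [h1, one_pow], by rw [h1]; simpa using h5⟩
      · obtain ⟨d, hd, -, -⟩ := hdeg t ht h1
        have := hall t ht h1 d hd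
        subst this
        exact ⟨hq2 t (hk1 ht hd), by simpa using count_le_four R hcard h0 hfr hinv hinj ht h1⟩
    · have hle : ∀ t : Ω, R.count t ≤ 2 ^ 3 := fun t => (R.count_le_card t).trans hcard.le
      by_cases hex : ∃ t ∈ R, t ≠ 1
      · obtain ⟨t, ht, h1⟩ := hex
        obtain ⟨d, hd, -, -⟩ := hdeg t ht h1
        have := hall t ht h1 d hd
        subst this
        have hin : ∀ u ∈ R, u = 1 ∨ u ∈ orb q 1 t := fun u hu => by
          by_contra hn
          push Not at hn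
          obtain ⟨e, he, -, -⟩ := hdeg u hu hn.1
          have := (mass_two R hcard h0 hfr hinv hinj ht h1 hd hu hn.1 he hn.2).1
          have := Multiset.one_le_count_iff_mem.mpr ht
          have := Multiset.one_le_count_iff_mem.mpr hu
          have := he.1
          nlinarith
        rcases hk1 ht hd with hk | hk
        · exact ⟨(3, q - 1), by simp [targets], fun u hu => ⟨(hin u hu).elim (fun e => by rw [e, one_pow])
            (orb_kill hk), hle u⟩⟩
        · exact ⟨(3, q + 1), by simp [targets], fun u hu => ⟨(hin u hu).elim (fun e => by rw [e, one_pow])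
            (orb_kill hk), hle u⟩⟩
      · push Not at hex
        exact ⟨(3, q - 1), by simp [targets], fun u hu => ⟨by rw [hex u hu, one_pow], hle u⟩⟩
  push Not at hall
  obtain ⟨t, ht, h1, d, hd, hd1⟩ := hall
  have hd4 : d ≤ 4 := by
    obtain ⟨d', hd', h4, -⟩ := hdeg t ht h1
    rwa [hd.unique hd']
  have hct := Multiset.one_le_count_iff_mem.mpr ht
  have hcl := mass_one R hcard h0 hfr hinv hinj ht h1 hd
  have hd2 : 2 ≤ d := by have := hd.1; omega
  -- the roots outside the orbit and one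
  by_cases h4 : d = 4
  · subst h4
    have hin : ∀ u ∈ R, u ∈ orb q 4 t ∧ R.count u = 1 := fun u hu => by
      have hu' := all_mem R (orb q 4 t) (by
        rw [sum_orb R h0 hfr hinv hinj ht h1 hd.2.2, hcard]; omega) hu
      exact ⟨hu', by rw [hcnt hu']; omega⟩
    rcases hkill ht hd with hk | hk
    · exact ⟨(0, q ^ 4 - 1), by simp [targets], fun u hu =>
        ⟨orb_kill hk (hin u hu).1, by simp [(hin u hu).2]⟩⟩
    · exact ⟨(0, q ^ 4 + 1), by simp [targets], fun u hu =>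
        ⟨orb_kill hk (hin u hu).1, by simp [(hin u hu).2]⟩⟩
  by_cases h3 : d = 3
  · subst h3
    by_cases hout : ∃ s ∈ R, s ≠ 1 ∧ s ∉ orb q 3 t
    · obtain ⟨s, hs, hs1, hst⟩ := hout
      obtain ⟨e, he, -, -⟩ := hdeg s hs hs1
      obtain ⟨hm, hall2⟩ := mass_two R hcard h0 hfr hinv hinj ht h1 hd hs hs1 he hst
      have hcs := Multiset.one_le_count_iff_mem.mpr hs
      have := he.1
      have he1 : e = 1 := by nlinarith
      subst he1
      have hin : ∀ u ∈ R, (u ∈ orb q 3 t ∨ u ∈ orb q 1 s) ∧ R.count u = 1 := fun u hu => by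
        have hm1 : R.count 1 = 0 := by omega
        rcases hall2 (by omega) u hu with rfl | h | h
        · exact absurd hu (Multiset.count_eq_zero.mp hm1)
        · exact ⟨Or.inl h, by rw [hcnt h]; omega⟩
        · exact ⟨Or.inr h, by rw [hcnt h]; omega⟩
      have key : ∀ A : ℕ × ℕ, A ∈ targets q → t ^ A.2 = 1 → s ^ A.2 = 1 →
          ∃ vM ∈ targets q, ∀ u ∈ R, u ^ vM.2 = 1 ∧ R.count u ≤ 2 ^ vM.1 := fun A hA h h' =>
        ⟨A, hA, fun u hu => ⟨(hin u hu).1.elim (orb_kill h) (orb_kill h'),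
          by rw [(hin u hu).2]; exact Nat.one_le_two_pow⟩⟩
      rcases hkill ht hd with hk | hk <;> rcases hk1 hs he with hk' | hk'
      · exact key (1, q ^ 3 - 1) (by simp [targets]) hk (pow_one_of_dvd (cube_dvd q).1 hk')
      · exact key (0, (q ^ 3 - 1) * (q + 1)) (by simp [targets]) (pow_one_of_dvd (dvd_mul_right _ _) hk)
          (pow_one_of_dvd (dvd_mul_left _ _) hk')
      · exact key (0, (q ^ 3 + 1) * (q - 1)) (by simp [targets]) (pow_one_of_dvd (dvd_mul_right _ _) hk)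
          (pow_one_of_dvd (dvd_mul_left _ _) hk')
      · exact key (1, q ^ 3 + 1) (by simp [targets]) hk (pow_one_of_dvd (cube_dvd q).2 hk')
    · push Not at hout
      have hle : ∀ u ∈ R, R.count u ≤ 2 := fun u hu => by
        by_cases hu1 : u = 1
        · rw [hu1]; omega
        · rw [hcnt (hout u hu hu1)]; omega
      have key : ∀ M : ℕ, t ^ M = 1 → ∀ u ∈ R, u ^ M = 1 ∧ R.count u ≤ 2 ^ 1 := fun M h u hu =>
        ⟨by by_cases hu1 : u = 1
            · rw [hu1, one_pow]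
            · exact orb_kill h (hout u hu hu1), hle u hu⟩
      rcases hkill ht hd with hk | hk
      · exact ⟨(1, q ^ 3 - 1), by simp [targets], key _ hk⟩
      · exact ⟨(1, q ^ 3 + 1), by simp [targets], key _ hk⟩
  have hd22 : d = 2 := by omega
  subst hd22
  have hq4 : ∀ u ∈ R, u ^ (q ^ 4 - 1) = 1 := fun u hu => by
    by_cases hu1 : u = 1
    · rw [hu1, one_pow]
    obtain ⟨e, he, he4, hce⟩ := hdeg u hu hu1
    have hcu := Multiset.one_le_count_iff_mem.mpr hu
    have he12 : e = 1 ∨ e = 2 := by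
      by_contra hn
      by_cases hut : u ∈ orb q 2 t
      · have : Deg q u 2 := ⟨by norm_num, (P_orb hinj hut).mpr hd.2.1,
          fun k h h' hk => hd.2.2 k h h' ((P_orb hinj hut).mp hk)⟩
        exact hn (Or.inr (he.unique this))
      · have := (mass_two R hcard h0 hfr hinv hinj ht h1 hd hu hu1 he hut).1
        have := he.1
        have : 2 * e * 1 ≤ 2 * e * R.count u := Nat.mul_le_mul_left _ hcu
        omega
    rcases he12 with rfl | rfl
    · exact pow_one_of_dvd (four_dvd q).1 (hq2 u (hk1 hu he))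
    · exact (hkill hu he).elim (pow_one_of_dvd (four_dvd q).1) (pow_one_of_dvd (four_dvd q).2)
  by_cases hone : ∀ u ∈ R, R.count u ≤ 1
  · exact ⟨(0, q ^ 4 - 1), by simp [targets], fun u hu => ⟨hq4 u hu, by simpa using hone u hu⟩⟩
  push Not at hone
  obtain ⟨w, hw, hw2⟩ := hone
  by_cases hout : ∀ u ∈ R, u = 1 ∨ u ∈ orb q 2 t
  · have key : ∀ M : ℕ, t ^ M = 1 → ∀ u ∈ R, u ^ M = 1 ∧ R.count u ≤ 2 ^ 2 := fun M h u hu => by
      rcases hout u hu with rfl | hu'
      · exact ⟨one_pow M, by omega⟩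
      · exact ⟨orb_kill h hu', by rw [hcnt hu']; omega⟩
    rcases hkill ht hd with hk | hk
    · exact ⟨(2, q ^ 2 - 1), by simp [targets], key _ hk⟩
    · exact ⟨(2, q ^ 2 + 1), by simp [targets], key _ hk⟩
  push Not at hout
  obtain ⟨u, hu, hu1, hut⟩ := hout
  -- an orbit of degree one carries the rest
  obtain ⟨s, e, hs, hs1, hst, he, hsum⟩ : ∃ s e, s ∈ R ∧ s ≠ 1 ∧ s ∉ orb q 2 t ∧ Deg q s e ∧
      2 * 2 * R.count t + 2 * e * R.count s + R.count 1 = 8 := by
    obtain ⟨e, he, -, -⟩ := hdeg u hu hu1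
    have hm := (mass_two R hcard h0 hfr hinv hinj ht h1 hd hu hu1 he hut).1
    have hcu := Multiset.one_le_count_iff_mem.mpr hu
    have he1 := he.1
    have h2e : 2 * e ≤ 2 * e * R.count u := Nat.le_mul_of_pos_right _ hcu
    by_cases hw1 : w = 1
    · refine ⟨u, e, hu, hu1, hut, he, ?_⟩
      subst hw1
      omega
    by_cases hwt : w ∈ orb q 2 t
    · rw [hcnt hwt] at hw2
      omega
    · obtain ⟨e', he', -, -⟩ := hdeg w hw hw1
      refine ⟨w, e', hw, hw1, hwt, he', ?_⟩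
      have := (mass_two R hcard h0 hfr hinv hinj ht h1 hd hw hw1 he' hwt).1
      have := he'.1
      have : 2 * e' * 2 ≤ 2 * e' * R.count w := Nat.mul_le_mul_left _ hw2
      omega
  have hcs := Multiset.one_le_count_iff_mem.mpr hs
  have hcle : R.count t = 1 ∧ R.count s ≤ 2 ∧ R.count 1 ≤ 2 := by
    have := he.1
    have : 2 * e ≤ 2 * e * R.count s := Nat.le_mul_of_pos_right _ hcs
    have : 2 * R.count s ≤ 2 * e * R.count s := Nat.mul_le_mul_right _ (by omega)
    omega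
  have hin := (mass_two R hcard h0 hfr hinv hinj ht h1 hd hs hs1 he hst).2 hsum
  have hwle : ∀ x ∈ R, R.count x ≤ 2 := fun x hx => by
    rcases hin x hx with rfl | h | h
    · exact hcle.2.2
    · rw [hcnt h, hcle.1]; omega
    · rw [hcnt h]; exact hcle.2.1
  have he1 : e = 1 := by
    have := he.1
    rcases hin w hw with rfl | h | h
    · by_contra hne
      have : 2 * 2 ≤ 2 * e * R.count s := le_trans (by omega) (Nat.le_mul_of_pos_right _ hcs)
      omega
    · rw [hcnt h, hcle.1] at hw2; omega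
    · rw [hcnt h] at hw2
      by_contra hne
      have : 2 * 2 * 2 ≤ 2 * e * R.count s := Nat.mul_le_mul (by omega) hw2
      omega
  subst he1
  have key : ∀ A : ℕ × ℕ, A ∈ targets q → 1 ≤ A.1 → t ^ A.2 = 1 → s ^ A.2 = 1 →
      ∃ vM ∈ targets q, ∀ x ∈ R, x ^ vM.2 = 1 ∧ R.count x ≤ 2 ^ vM.1 := fun A hA hA1 h h' =>
    ⟨A, hA, fun x hx => ⟨by
      rcases hin x hx with rfl | hx' | hx'
      · exact one_pow _
      · exact orb_kill h hx'
      · exact orb_kill h' hx', (hwle x hx).trans (Nat.le_self_pow (by omega) 2)⟩⟩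
  rcases hkill ht hd with hk | hk
  · exact key (2, q ^ 2 - 1) (by simp [targets]) (by norm_num) hk (hq2 s (hk1 hs he))
  · rcases hk1 hs he with hk' | hk'
    · exact key (1, (q ^ 2 + 1) * (q - 1)) (by simp [targets]) le_rfl (pow_one_of_dvd (dvd_mul_right _ _) hk)
        (pow_one_of_dvd (dvd_mul_left _ _) hk')
    · exact key (1, (q ^ 2 + 1) * (q + 1)) (by simp [targets]) le_rfl (pow_one_of_dvd (dvd_mul_right _ _) hk)
        (pow_one_of_dvd (dvd_mul_left _ _) hk')

end CfsgLib.SpecSp8
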